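import Mathlib

/-! Adjoint maps with respect to a nondegenerate pairing have the same rank; dimension of coordinate subspaces. -/

open scoped Classical
set_option linter.unusedSectionVars false
set_option autoImplicit false
noncomputable section

namespace Groth.Agent.Lib.Helper6.Hilbpn.Kz

variable {k : Type*} [Field k]

theorem finrank_range_eq_of_adjoint {E : Type*} [AddCommGroup E] [Module k E] [FiniteDimensional k E]
    (P : E →ₗ[k] E →ₗ[k] k) (hP : ∀ e', (∀ e, P e e' = 0) → e' = 0)
    (D D' : E →ₗ[k] E) (hadj : ∀ e e', P (D e) e' = P e (D' e')) :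
    Module.finrank k (LinearMap.range D) = Module.finrank k (LinearMap.range D') := by
  have hinj : Function.Injective P.flip := by
    refine (injective_iff_map_eq_zero _).2 fun e' h => hP e' fun e => ?_
    have := LinearMap.congr_fun h e
    simpa using this
  let ι : E ≃ₗ[k] Module.Dual k E :=
    LinearMap.linearEquivOfInjective P.flip hinj (Subspace.dual_finrank_eq).symm
  have hι : ∀ e, ι e = P.flip e := fun e => rfl
  have hcomm : D.dualMap ∘ₗ ι.toLinearMap = ι.toLinearMap ∘ₗ D' := by
    ext e' e
    simp only [LinearMap.coe_comp, LinearEquiv.coe_coe, Function.comp_apply, hι,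
      LinearMap.dualMap_apply, LinearMap.flip_apply]
    exact hadj e e'
  have h1 : Module.finrank k (LinearMap.range D') =
      Module.finrank k (LinearMap.range (ι.toLinearMap ∘ₗ D')) := by
    rw [LinearMap.range_comp]
    exact (LinearEquiv.finrank_map_eq ι _).symm
  have h2 : LinearMap.range (D.dualMap ∘ₗ ι.toLinearMap) = LinearMap.range D.dualMap := by
    rw [LinearMap.range_comp, LinearEquiv.range, Submodule.map_top]
  rw [h1, ← hcomm, h2, LinearMap.finrank_range_dualMap_eq_finrank_range]

/-- functions vanishing outside `S` -/
def coordSub {ι : Type*} (S : ι → Prop) : Submodule k (ι → k) where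
  carrier := {f : ι → k | ∀ i, ¬ S i → f i = 0}
  zero_mem' := fun _ _ => rfl
  add_mem' := by
    intro f g hf hg i hi
    show f i + g i = 0
    rw [hf i hi, hg i hi, add_zero]
  smul_mem' := by
    intro c f hf i hi
    show c • f i = 0
    rw [hf i hi, smul_zero]

lemma mem_coordSub {ι : Type*} {S : ι → Prop} {f : ι → k} :
    f ∈ coordSub (k := k) S ↔ ∀ i, ¬ S i → f i = 0 := Iff.rfl

/-- dimension of a coordinate subspace -/
theorem finrank_coordSub {ι : Type*} [Fintype ι] (S : ι → Prop) :
    Module.finrank k ↥(coordSub (k := k) S) = Fintype.card {i // S i} := by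
  rw [← Module.finrank_fintype_fun_eq_card (R := k)]
  refine LinearEquiv.finrank_eq
    { toFun := fun f i => f.1 i.1
      map_add' := fun _ _ => rfl
      map_smul' := fun _ _ => rfl
      invFun := fun g => ⟨fun i => if h : S i then g ⟨i, h⟩ else 0, fun i hi => dif_neg hi⟩
      left_inv := ?_
      right_inv := ?_ }
  · intro f
    apply Subtype.ext
    funext i
    by_cases h : S i
    · simp [dif_pos h]
    · simp only [dif_neg h]; exact (f.2 i h).symm
  · intro g
    funext i
    simp [dif_pos i.2]

end Groth.Agent.Lib.Helper6.Hilbpn.Kz
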