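import Mathlib
import Groth.Prelude.Def_W4c1hilbpnTgt
import Groth.Agent.Lib.Helper6.Hilbpn.Decomp

/-! The basis of standard monomials of `S/I`, coefficient functionals, and finiteness of `T(I)`. -/

open scoped Classical
set_option linter.unusedSectionVars false
set_option autoImplicit false
noncomputable section

namespace Groth.Agent.Lib.Helper6.Hilbpn
open MvPolynomial W4c1hilbpn

variable {σ : Type*} {k : Type*} [Field k] [Fintype σ]
variable {I : Ideal (MvPolynomial σ k)} (hI : IsMonomial I)

/-- standard monomials -/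
abbrev Std (I : Ideal (MvPolynomial σ k)) : Type _ := {v : σ →₀ ℕ // v ∉ exps I}

lemma finsupp_induction_single {P : (σ →₀ ℕ) → Prop} (h0 : P 0)
    (hs : ∀ β l, P β → P (β + Finsupp.single l 1)) : ∀ β, P β := by
  intro β
  induction β using Finsupp.induction with
  | zero => exact h0
  | single_add a b f _ _ ih =>
    have key : ∀ n : ℕ, P (Finsupp.single a n + f) := by
      intro n
      induction n with
      | zero => simpa using ih
      | succ n ihn =>
        have : Finsupp.single a (n + 1) + f = (Finsupp.single a n + f) + Finsupp.single a 1 := by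
          rw [Finsupp.single_add]; abel
        rw [this]
        exact hs _ _ ihn
    exact key b

include hI in
lemma mk_eq_sum_std (p : MvPolynomial σ k) :
    Ideal.Quotient.mk I p = ∑ u ∈ p.support,
      coeffQ' hI u (Ideal.Quotient.mk I p) • Ideal.Quotient.mk I (monomial u (1:k)) := by
  conv_lhs => rw [p.as_sum, map_sum]
  refine Finset.sum_congr rfl fun u _ => ?_
  by_cases hu : u ∈ exps I
  · rw [mk_monomial_eq_zero_iff.2 hu, smul_zero]
    have : monomial u (coeff u p) = C (coeff u p) * monomial u (1:k) := by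
      rw [C_mul_monomial, mul_one]
    rw [this, map_mul, mk_monomial_eq_zero_iff.2 hu, mul_zero]
  · rw [coeffQ'_mk hI hu]
    have : monomial u (coeff u p) = coeff u p • monomial u (1:k) := by
      rw [smul_monomial, smul_eq_mul, mul_one]
    rw [this]
    rfl

/-- the basis of standard monomials -/
def stdBasis : Module.Basis (Std I) k (MvPolynomial σ k ⧸ I) :=
  Module.Basis.mk (linearIndependent_std hI) (by
    intro q _
    obtain ⟨p, rfl⟩ := Ideal.Quotient.mk_surjective q
    rw [mk_eq_sum_std hI p]
    refine Submodule.sum_mem _ fun u _ => ?_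
    by_cases hu : u ∈ exps I
    · rw [mk_monomial_eq_zero_iff.2 hu, smul_zero]; exact Submodule.zero_mem _
    · exact Submodule.smul_mem _ _ (Submodule.subset_span ⟨⟨u, hu⟩, rfl⟩))

lemma stdBasis_apply (w : Std I) :
    stdBasis hI w = Ideal.Quotient.mk I (monomial w.1 (1:k)) := by
  unfold stdBasis
  rw [Module.Basis.mk_apply]

lemma stdBasis_repr (q : MvPolynomial σ k ⧸ I) (w : Std I) :
    (stdBasis hI).repr q w = coeffQ' hI w.1 q := by
  have h : (Finsupp.lapply w).comp (stdBasis hI).repr.toLinearMap = coeffQ' hI w.1 := by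
    apply (stdBasis hI).ext
    intro u
    simp only [LinearMap.coe_comp, LinearEquiv.coe_coe, Function.comp_apply, Module.Basis.repr_self,
      Finsupp.lapply_apply]
    rw [stdBasis_apply, coeffQ'_mk_monomial hI w.2, Finsupp.single_apply]
    by_cases huw : u = w
    · rw [if_pos huw, if_pos (congrArg Subtype.val huw)]
    · rw [if_neg huw, if_neg (fun h => huw (Subtype.ext h))]
  exact LinearMap.congr_fun h q

include hI in
lemma Q_ext {q q' : MvPolynomial σ k ⧸ I}
    (h : ∀ w : σ →₀ ℕ, w ∉ exps I → coeffQ' hI w q = coeffQ' hI w q') : q = q' := by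
  apply (stdBasis hI).repr.injective
  ext w
  rw [stdBasis_repr, stdBasis_repr]
  exact h w.1 w.2

lemma smul_eq_mk_mul (p : MvPolynomial σ k) (q : MvPolynomial σ k ⧸ I) :
    p • q = Ideal.Quotient.mk I p * q := by
  obtain ⟨r, rfl⟩ := Ideal.Quotient.mk_surjective q
  rfl

lemma smul_eq_zero_of_mem {p : MvPolynomial σ k} (hp : p ∈ I) (q : MvPolynomial σ k ⧸ I) :
    p • q = 0 := by
  rw [smul_eq_mk_mul, Ideal.Quotient.eq_zero_iff_mem.2 hp, zero_mul]

lemma coeffQ'_monomial_smul (u w : σ →₀ ℕ) (hw : w ∉ exps I) (q : MvPolynomial σ k ⧸ I) :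
    coeffQ' hI w ((monomial u (1:k)) • q) = if u ≤ w then coeffQ' hI (w - u) q else 0 := by
  obtain ⟨p, rfl⟩ := Ideal.Quotient.mk_surjective q
  have : (monomial u (1:k)) • (Ideal.Quotient.mk I p) = Ideal.Quotient.mk I (monomial u 1 * p) := rfl
  rw [this, coeffQ'_mk hI hw, coeff_monomial_mul']
  by_cases hle : u ≤ w
  · have hw' : w - u ∉ exps I := fun h => hw (exps_of_le h (tsub_le_self))
    rw [if_pos hle, if_pos hle, coeffQ'_mk hI hw', one_mul]
  · rw [if_neg hle, if_neg hle]

/-- multiplication by a variable on `S/I` -/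
def mulX (I : Ideal (MvPolynomial σ k)) (l : σ) : Module.End k (MvPolynomial σ k ⧸ I) where
  toFun q := (X l : MvPolynomial σ k) • q
  map_add' := smul_add _
  map_smul' c q := smul_comm _ _ _

@[simp] lemma mulX_apply (l : σ) (q : MvPolynomial σ k ⧸ I) :
    mulX I l q = (X l : MvPolynomial σ k) • q := rfl

include hI in
/-- `T(I)` is finite dimensional. -/
theorem finite_Tgt [Module.Finite k (MvPolynomial σ k ⧸ I)] : Module.Finite k (Tgt I) := by
  obtain ⟨G, hG, hGψ⟩ := exists_finite_gens hI
  let ev : Tgt I →ₗ[k] (↥G → (MvPolynomial σ k ⧸ I)) :=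
    LinearMap.pi fun w => evalAt (monI I w.1 (hG w.1 w.2))
  refine Module.Finite.of_injective ev ?_
  refine (injective_iff_map_eq_zero _).2 fun ψ h => ?_
  apply hGψ
  intro w hw hw'
  exact congrFun h ⟨w, hw⟩

end Groth.Agent.Lib.Helper6.Hilbpn
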