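import Mathlib
import Groth.Agent.Lib.Helper6.Hilbpn.Kz.Adjoint

/-! The first Koszul differential of three bigraded matrices: symmetry of the dimension of cocycles. -/

open scoped Classical
set_option linter.unusedSectionVars false
set_option autoImplicit false
noncomputable section

namespace Groth.Agent.Lib.Helper6.Hilbpn.Kz

variable {k : Type*} [Field k] {B : Type*} [Fintype B] [DecidableEq B]

/-- triples of matrices, in coordinates -/
abbrev E (B k : Type*) := Fin 3 × B × B → k

def mat (e : E B k) (l : Fin 3) : Matrix B B k := fun w u => e (l, w, u)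
def ofMat (a : Fin 3 → Matrix B B k) : E B k := fun p => a p.1 p.2.1 p.2.2

@[simp] lemma mat_ofMat (a : Fin 3 → Matrix B B k) (l : Fin 3) : mat (ofMat a) l = a l := rfl
@[simp] lemma ofMat_mat (e : E B k) : ofMat (mat e) = e := rfl
lemma mat_add (e e' : E B k) (l : Fin 3) : mat (e + e') l = mat e l + mat e' l := rfl
lemma mat_smul (c : k) (e : E B k) (l : Fin 3) : mat (c • e) l = c • mat e l := rfl

variable (M : Fin 3 → Matrix B B k)

/-- commutator with `M l` -/
def theta (l : Fin 3) (a : Matrix B B k) : Matrix B B k := M l * a - a * M l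

lemma theta_add (l : Fin 3) (a b : Matrix B B k) : theta M l (a + b) = theta M l a + theta M l b := by
  unfold theta; rw [mul_add, add_mul]; abel

lemma theta_sub (l : Fin 3) (a b : Matrix B B k) : theta M l (a - b) = theta M l a - theta M l b := by
  unfold theta; rw [mul_sub, sub_mul]; abel

lemma theta_smul (l : Fin 3) (c : k) (a : Matrix B B k) : theta M l (c • a) = c • theta M l a := by
  unfold theta; rw [Matrix.mul_smul, Matrix.smul_mul, smul_sub]

lemma trace_theta_mul (l : Fin 3) (a b : Matrix B B k) :
    Matrix.trace (theta M l a * b) = - Matrix.trace (a * theta M l b) := by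
  have h1 : (theta M l a * b) = M l * (a * b) - a * (M l * b) := by
    unfold theta; rw [sub_mul, Matrix.mul_assoc, Matrix.mul_assoc]
  have h2 : (a * theta M l b) = a * (M l * b) - (a * b) * M l := by
    unfold theta; rw [mul_sub, Matrix.mul_assoc]
  rw [h1, h2, Matrix.trace_sub, Matrix.trace_sub, Matrix.trace_mul_comm (a * b) (M l)]
  ring

/-- the first Koszul differential on triples -/
def Dm (a : Fin 3 → Matrix B B k) : Fin 3 → Matrix B B k :=
  ![theta M 1 (a 2) - theta M 2 (a 1), theta M 2 (a 0) - theta M 0 (a 2),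
    theta M 0 (a 1) - theta M 1 (a 0)]

@[simp] lemma Dm_zero (a : Fin 3 → Matrix B B k) : Dm M a 0 = theta M 1 (a 2) - theta M 2 (a 1) := rfl
@[simp] lemma Dm_one (a : Fin 3 → Matrix B B k) : Dm M a 1 = theta M 2 (a 0) - theta M 0 (a 2) := rfl
@[simp] lemma Dm_two (a : Fin 3 → Matrix B B k) : Dm M a 2 = theta M 0 (a 1) - theta M 1 (a 0) := rfl

lemma Dm_add (a a' : Fin 3 → Matrix B B k) : Dm M (a + a') = Dm M a + Dm M a' := by
  funext l
  match l with
  | 0 => simp only [Dm_zero, Pi.add_apply, theta_add]; abel
  | 1 => simp only [Dm_one, Pi.add_apply, theta_add]; abel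
  | 2 => simp only [Dm_two, Pi.add_apply, theta_add]; abel

lemma Dm_smul (c : k) (a : Fin 3 → Matrix B B k) : Dm M (c • a) = c • Dm M a := by
  funext l
  match l with
  | 0 => simp only [Dm_zero, Pi.smul_apply, theta_smul, smul_sub]
  | 1 => simp only [Dm_one, Pi.smul_apply, theta_smul, smul_sub]
  | 2 => simp only [Dm_two, Pi.smul_apply, theta_smul, smul_sub]

/-- the differential as a linear map in coordinates -/
def Dlin : E B k →ₗ[k] E B k where
  toFun e := ofMat (Dm M (mat e))
  map_add' e e' := by
    have : mat (e + e') = mat e + mat e' := rfl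
    rw [this, Dm_add]; rfl
  map_smul' c e := by
    have : mat (c • e) = c • mat e := rfl
    rw [this, Dm_smul]; rfl

lemma mat_Dlin (e : E B k) (l : Fin 3) : mat (Dlin M e) l = Dm M (mat e) l := rfl

/-- the trace pairing on triples -/
def Pair : E B k →ₗ[k] E B k →ₗ[k] k :=
  LinearMap.mk₂ k (fun e e' => ∑ l, Matrix.trace (mat e l * mat e' l))
    (fun e₁ e₂ e' => by
      rw [← Finset.sum_add_distrib]
      refine Finset.sum_congr rfl fun l _ => ?_
      rw [mat_add, add_mul, Matrix.trace_add])
    (fun c e e' => by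
      rw [Finset.smul_sum]
      refine Finset.sum_congr rfl fun l _ => ?_
      rw [mat_smul, Matrix.smul_mul, Matrix.trace_smul])
    (fun e e₁ e₂ => by
      rw [← Finset.sum_add_distrib]
      refine Finset.sum_congr rfl fun l _ => ?_
      rw [mat_add, mul_add, Matrix.trace_add])
    (fun c e e' => by
      rw [Finset.smul_sum]
      refine Finset.sum_congr rfl fun l _ => ?_
      rw [mat_smul, Matrix.mul_smul, Matrix.trace_smul])

lemma Pair_apply (e e' : E B k) : Pair e e' = ∑ l, Matrix.trace (mat e l * mat e' l) := rfl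

lemma Pair_apply' (e e' : E B k) :
    Pair e e' = ∑ l : Fin 3, ∑ w : B, ∑ u : B, e (l, w, u) * e' (l, u, w) := by
  rw [Pair_apply]
  refine Finset.sum_congr rfl fun l _ => ?_
  simp only [Matrix.trace, Matrix.diag, Matrix.mul_apply]
  rfl

lemma Pair_nondeg (e' : E B k) (h : ∀ e, Pair e e' = 0) : e' = 0 := by
  funext ⟨l, w, u⟩
  have := h (Pi.single (l, u, w) 1)
  rw [Pair_apply'] at this
  rw [Finset.sum_eq_single l, Finset.sum_eq_single u, Finset.sum_eq_single w] at this
  · simpa using this
  · intro b _ hb
    rw [Pi.single_apply, if_neg, zero_mul]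
    intro h'; apply hb
    exact (congrArg (fun p : Fin 3 × B × B => p.2.2) h')
  · intro h'; exact absurd (Finset.mem_univ _) h'
  · intro b _ hb
    refine Finset.sum_eq_zero fun c _ => ?_
    rw [Pi.single_apply, if_neg, zero_mul]
    intro h'; apply hb
    exact (congrArg (fun p : Fin 3 × B × B => p.2.1) h')
  · intro h'; exact absurd (Finset.mem_univ _) h'
  · intro b _ hb
    refine Finset.sum_eq_zero fun c _ => Finset.sum_eq_zero fun d _ => ?_
    rw [Pi.single_apply, if_neg, zero_mul]
    intro h'; apply hb
    exact (congrArg (fun p : Fin 3 × B × B => p.1) h')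
  · intro h'; exact absurd (Finset.mem_univ _) h'

lemma Dlin_selfadjoint (e e' : E B k) : Pair (Dlin M e) e' = Pair e (Dlin M e') := by
  rw [Pair_apply, Pair_apply, Fin.sum_univ_three, Fin.sum_univ_three]
  simp only [mat_Dlin, Dm_zero, Dm_one, Dm_two, sub_mul, mul_sub, Matrix.trace_sub,
    trace_theta_mul]
  ring

/-- coordinate mask -/
def maskE (S : Fin 3 × B × B → Prop) : E B k →ₗ[k] E B k where
  toFun e := fun p => if S p then e p else 0
  map_add' e e' := by
    funext p
    by_cases h : S p <;> simp [h]
  map_smul' c e := by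
    funext p
    by_cases h : S p <;> simp [h]

lemma maskE_apply (S : Fin 3 × B × B → Prop) (e : E B k) (p : Fin 3 × B × B) :
    maskE S e p = if S p then e p else 0 := rfl

lemma range_maskE (S : Fin 3 × B × B → Prop) :
    LinearMap.range (maskE (k := k) S) = coordSub (k := k) S := by
  ext e
  constructor
  · rintro ⟨e0, rfl⟩ p hp
    rw [maskE_apply, if_neg hp]
  · intro he
    refine ⟨e, ?_⟩
    funext p
    rw [maskE_apply]
    by_cases hp : S p
    · rw [if_pos hp]
    · rw [if_neg hp, he p hp]

variable {G : Type*} [AddCommGroup G] (deg : B → G) (eps : Fin 3 → G)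

/-- support of the degree-`δ` part of `K¹` -/
def S1 (δ : G) (p : Fin 3 × B × B) : Prop := deg p.2.1 - deg p.2.2 = δ + eps p.1

/-- support of the degree-`δ` part of `K²` -/
def S2 (δ : G) (p : Fin 3 × B × B) : Prop :=
  deg p.2.1 - deg p.2.2 = δ + (eps 0 + eps 1 + eps 2) - eps p.1

/-- matrix mask -/
def maskM (γ : G) (a : Matrix B B k) : Matrix B B k :=
  fun w u => if deg w - deg u = γ then a w u else 0

lemma maskM_sub (γ : G) (a b : Matrix B B k) :
    maskM deg γ (a - b) = maskM deg γ a - maskM deg γ b := by
  funext w u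
  simp only [maskM, Matrix.sub_apply]
  split_ifs <;> simp

variable {M deg eps}

lemma maskM_mul_left (hM : ∀ l w u, M l w u ≠ 0 → deg w = deg u + eps l) (m : Fin 3) (γ : G)
    (a : Matrix B B k) : maskM deg (γ + eps m) (M m * a) = M m * maskM deg γ a := by
  funext w u
  simp only [maskM, Matrix.mul_apply]
  by_cases hc : deg w - deg u = γ + eps m
  · rw [if_pos hc]
    refine Finset.sum_congr rfl fun x _ => ?_
    by_cases hx : M m w x = 0
    · rw [hx, zero_mul, zero_mul]
    · have := hM m w x hx
      rw [if_pos]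
      rw [this] at hc
      rw [← add_right_cancel_iff (a := eps m), ← hc]; abel
  · rw [if_neg hc]
    symm
    refine Finset.sum_eq_zero fun x _ => ?_
    by_cases hx : M m w x = 0
    · rw [hx, zero_mul]
    · have := hM m w x hx
      rw [if_neg, mul_zero]
      intro h'
      apply hc
      rw [this, ← h']; abel

lemma maskM_mul_right (hM : ∀ l w u, M l w u ≠ 0 → deg w = deg u + eps l) (m : Fin 3) (γ : G)
    (a : Matrix B B k) : maskM deg (γ + eps m) (a * M m) = maskM deg γ a * M m := by
  funext w u
  simp only [maskM, Matrix.mul_apply]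
  by_cases hc : deg w - deg u = γ + eps m
  · rw [if_pos hc]
    refine Finset.sum_congr rfl fun x _ => ?_
    by_cases hx : M m x u = 0
    · rw [hx, mul_zero, mul_zero]
    · have := hM m x u hx
      rw [if_pos]
      rw [this, ← add_right_cancel_iff (a := eps m), ← hc]; abel
  · rw [if_neg hc]
    symm
    refine Finset.sum_eq_zero fun x _ => ?_
    by_cases hx : M m x u = 0
    · rw [hx, mul_zero]
    · have := hM m x u hx
      rw [if_neg, zero_mul]
      intro h'
      apply hc
      rw [this] at h'
      rw [← h']; abel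

lemma maskM_theta (hM : ∀ l w u, M l w u ≠ 0 → deg w = deg u + eps l) (m : Fin 3) (γ : G)
    (a : Matrix B B k) : maskM deg (γ + eps m) (theta M m a) = theta M m (maskM deg γ a) := by
  unfold theta
  rw [maskM_sub, maskM_mul_left hM, maskM_mul_right hM]

end Groth.Agent.Lib.Helper6.Hilbpn.Kz
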