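import Mathlib
import Groth.Agent.Lib.Helper6.Hilbpn.Kz.Rank

/-! Symmetry of the dimension of graded cocycles. -/

open scoped Classical
set_option linter.unusedSectionVars false
set_option autoImplicit false
noncomputable section

namespace Groth.Agent.Lib.Helper6.Hilbpn.Kz

variable {k : Type*} [Field k] {B : Type*} [Fintype B] [DecidableEq B]
variable {M : Fin 3 → Matrix B B k} {G : Type*} [AddCommGroup G] {deg : B → G} {eps : Fin 3 → G}

lemma mat_maskE_S1 (δ : G) (e : E B k) (l : Fin 3) :
    mat (maskE (S1 deg eps δ) e) l = maskM deg (δ + eps l) (mat e l) := by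
  funext w u
  simp only [mat, maskE_apply, maskM, S1]
  split_ifs <;> rfl

lemma mat_maskE_S2 (δ : G) (e : E B k) (l : Fin 3) :
    mat (maskE (S2 deg eps δ) e) l = maskM deg (δ + (eps 0 + eps 1 + eps 2) - eps l) (mat e l) := by
  funext w u
  simp only [mat, maskE_apply, maskM, S2]
  split_ifs <;> rfl

lemma E_ext {e e' : E B k} (h : ∀ l, mat e l = mat e' l) : e = e' := by
  funext ⟨l, w, u⟩
  exact congrFun (congrFun (h l) w) u

lemma Dlin_maskE (hM : ∀ l w u, M l w u ≠ 0 → deg w = deg u + eps l) (δ : G) (e : E B k) :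
    Dlin M (maskE (S1 deg eps δ) e) = maskE (S2 deg eps δ) (Dlin M e) := by
  apply E_ext
  intro l
  rw [mat_maskE_S2, mat_Dlin, mat_Dlin]
  match l with
  | 0 =>
    simp only [Dm_zero, mat_maskE_S1, maskM_sub]
    have e1 : δ + (eps 0 + eps 1 + eps 2) - eps 0 = (δ + eps 2) + eps 1 := by abel
    have e2 : δ + (eps 0 + eps 1 + eps 2) - eps 0 = (δ + eps 1) + eps 2 := by abel
    rw [← maskM_theta hM 1 (δ + eps 2), ← maskM_theta hM 2 (δ + eps 1), ← e1, ← e2]
  | 1 =>
    simp only [Dm_one, mat_maskE_S1, maskM_sub]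
    have e1 : δ + (eps 0 + eps 1 + eps 2) - eps 1 = (δ + eps 0) + eps 2 := by abel
    have e2 : δ + (eps 0 + eps 1 + eps 2) - eps 1 = (δ + eps 2) + eps 0 := by abel
    rw [← maskM_theta hM 2 (δ + eps 0), ← maskM_theta hM 0 (δ + eps 2), ← e1, ← e2]
  | 2 =>
    simp only [Dm_two, mat_maskE_S1, maskM_sub]
    have e1 : δ + (eps 0 + eps 1 + eps 2) - eps 2 = (δ + eps 1) + eps 0 := by abel
    have e2 : δ + (eps 0 + eps 1 + eps 2) - eps 2 = (δ + eps 0) + eps 1 := by abel
    rw [← maskM_theta hM 0 (δ + eps 1), ← maskM_theta hM 1 (δ + eps 0), ← e1, ← e2]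

lemma Pair_maskE (δ : G) (g e' : E B k) :
    Pair (maskE (S2 deg eps δ) g) e' =
      Pair g (maskE (S1 deg eps (-δ - (eps 0 + eps 1 + eps 2))) e') := by
  rw [Pair_apply', Pair_apply']
  refine Finset.sum_congr rfl fun l _ => Finset.sum_congr rfl fun w _ =>
    Finset.sum_congr rfl fun u _ => ?_
  rw [maskE_apply, maskE_apply]
  have hiff : S2 deg eps δ (l, w, u) ↔ S1 deg eps (-δ - (eps 0 + eps 1 + eps 2)) (l, u, w) := by
    unfold S1 S2
    simp only
    constructor
    · intro h
      have : deg u - deg w = -(deg w - deg u) := by abel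
      rw [this, h]; abel
    · intro h
      have : deg w - deg u = -(deg u - deg w) := by abel
      rw [this, h]; abel
  by_cases h : S2 deg eps δ (l, w, u)
  · rw [if_pos h, if_pos (hiff.1 h)]
  · rw [if_neg h, if_neg (fun h' => h (hiff.2 h')), zero_mul, mul_zero]

/-- the differential restricted to degree `δ` -/
def Dδ (M : Fin 3 → Matrix B B k) (deg : B → G) (eps : Fin 3 → G) (δ : G) : E B k →ₗ[k] E B k :=
  Dlin M ∘ₗ maskE (S1 deg eps δ)

lemma Dδ_adjoint (hM : ∀ l w u, M l w u ≠ 0 → deg w = deg u + eps l) (δ : G) (e e' : E B k) :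
    Pair (Dδ M deg eps δ e) e' = Pair e (Dδ M deg eps (-δ - (eps 0 + eps 1 + eps 2)) e') := by
  unfold Dδ
  simp only [LinearMap.coe_comp, Function.comp_apply]
  rw [Dlin_maskE hM, Pair_maskE, Dlin_selfadjoint]

lemma finrank_range_Dδ (hM : ∀ l w u, M l w u ≠ 0 → deg w = deg u + eps l) (δ : G) :
    Module.finrank k (LinearMap.range (Dδ M deg eps δ)) =
      Module.finrank k (LinearMap.range (Dδ M deg eps (-δ - (eps 0 + eps 1 + eps 2)))) :=
  finrank_range_eq_of_adjoint Pair Pair_nondeg _ _ (Dδ_adjoint hM δ)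

/-- graded cocycles -/
def Z1 (M : Fin 3 → Matrix B B k) (deg : B → G) (eps : Fin 3 → G) (δ : G) : Submodule k (E B k) :=
  coordSub (k := k) (S1 deg eps δ) ⊓ LinearMap.ker (Dlin M)

lemma finrank_Z1_add (δ : G) :
    Module.finrank k ↥(Z1 M deg eps δ) + Module.finrank k (LinearMap.range (Dδ M deg eps δ)) =
      Fintype.card {p : Fin 3 × B × B // S1 deg eps δ p} := by
  rw [← finrank_coordSub (k := k)]
  set K := coordSub (k := k) (S1 deg eps δ) with hK
  have h1 := LinearMap.finrank_range_add_finrank_ker ((Dlin M).domRestrict K)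
  have h2 : LinearMap.range ((Dlin M).domRestrict K) = LinearMap.range (Dδ M deg eps δ) := by
    unfold Dδ
    rw [LinearMap.range_comp, range_maskE, ← hK]
    ext x
    constructor
    · rintro ⟨y, rfl⟩
      exact ⟨y.1, y.2, rfl⟩
    · rintro ⟨y, hy, rfl⟩
      exact ⟨⟨y, hy⟩, rfl⟩
  have h3 : Module.finrank k (LinearMap.ker ((Dlin M).domRestrict K)) =
      Module.finrank k ↥(Z1 M deg eps δ) := by
    apply LinearEquiv.finrank_eq
    refine
      { toFun := fun x => ⟨x.1.1, x.1.2, by
          have := x.2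
          have h' : (Dlin M).domRestrict K x.1 = 0 := LinearMap.mem_ker.1 this
          exact LinearMap.mem_ker.2 h'⟩
        map_add' := fun _ _ => rfl
        map_smul' := fun _ _ => rfl
        invFun := fun x => ⟨⟨x.1, x.2.1⟩, by
          have h' : Dlin M x.1 = 0 := LinearMap.mem_ker.1 x.2.2
          exact LinearMap.mem_ker.2 h'⟩
        left_inv := fun _ => rfl
        right_inv := fun _ => rfl }
  have h4 : Module.finrank k (LinearMap.range ((Dlin M).domRestrict K)) =
      Module.finrank k (LinearMap.range (Dδ M deg eps δ)) := by rw [h2]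
  rw [h4, h3] at h1
  rw [← h1]
  exact Nat.add_comm _ _

/-- number of index pairs of degree `γ` -/
def npair (deg : B → G) (γ : G) : ℕ := Fintype.card {q : B × B // deg q.1 - deg q.2 = γ}

lemma npair_neg (γ : G) : npair deg (-γ) = npair deg γ := by
  unfold npair
  apply Fintype.card_congr
  refine
    { toFun := fun q => ⟨q.1.swap, by
        have := q.2
        simp only [Prod.fst_swap, Prod.snd_swap]
        have h : deg q.1.2 - deg q.1.1 = -(deg q.1.1 - deg q.1.2) := by abel
        rw [h, this, neg_neg]⟩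
      invFun := fun q => ⟨q.1.swap, by
        have := q.2
        simp only [Prod.fst_swap, Prod.snd_swap]
        have h : deg q.1.2 - deg q.1.1 = -(deg q.1.1 - deg q.1.2) := by abel
        rw [h, this]⟩
      left_inv := fun q => by simp
      right_inv := fun q => by simp }

lemma card_S1 (δ : G) :
    Fintype.card {p : Fin 3 × B × B // S1 deg eps δ p} =
      npair deg (δ + eps 0) + npair deg (δ + eps 1) + npair deg (δ + eps 2) := by
  unfold npair
  rw [Fintype.card_subtype, Fintype.card_subtype, Fintype.card_subtype, Fintype.card_subtype,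
    Finset.card_filter, Finset.card_filter, Finset.card_filter, Finset.card_filter,
    Fintype.sum_prod_type, Fin.sum_univ_three]
  simp only [S1]
  congr 1

/-- **Symmetry of the dimension of cocycles** (one of the three operators has degree zero). -/
theorem finrank_Z1_symm (hM : ∀ l w u, M l w u ≠ 0 → deg w = deg u + eps l) (i0 : Fin 3)
    (h0 : eps i0 = 0) (δ : G) :
    Module.finrank k ↥(Z1 M deg eps δ) + npair deg (-δ - (eps 0 + eps 1 + eps 2)) =
      Module.finrank k ↥(Z1 M deg eps (-δ - (eps 0 + eps 1 + eps 2))) + npair deg δ := by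
  have h1 := finrank_Z1_add (M := M) (deg := deg) (eps := eps) δ
  have h2 := finrank_Z1_add (M := M) (deg := deg) (eps := eps) (-δ - (eps 0 + eps 1 + eps 2))
  rw [card_S1] at h1 h2
  rw [← finrank_range_Dδ hM δ] at h2
  have e0 : -δ - (eps 0 + eps 1 + eps 2) + eps 0 = -(δ + eps 1 + eps 2) := by abel
  have e1 : -δ - (eps 0 + eps 1 + eps 2) + eps 1 = -(δ + eps 0 + eps 2) := by abel
  have e2 : -δ - (eps 0 + eps 1 + eps 2) + eps 2 = -(δ + eps 0 + eps 1) := by abel
  have e3 : -δ - (eps 0 + eps 1 + eps 2) = -(δ + eps 0 + eps 1 + eps 2) := by abel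
  rw [e0, e1, e2, npair_neg, npair_neg, npair_neg] at h2
  rw [e3, npair_neg]
  rw [e3] at h2
  match i0, h0 with
  | 0, h0 =>
    rw [h0] at h1 h2 ⊢
    simp only [add_zero] at h1 h2 ⊢
    omega
  | 1, h0 =>
    rw [h0] at h1 h2 ⊢
    simp only [add_zero] at h1 h2 ⊢
    omega
  | 2, h0 =>
    rw [h0] at h1 h2 ⊢
    simp only [add_zero] at h1 h2 ⊢
    omega

end Groth.Agent.Lib.Helper6.Hilbpn.Kz
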