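import Mathlib
import Groth.Prelude.Def_W4c1hilbpnTgt
import Groth.Agent.Lib.Helper6.Hilbpn.Kz.QBasis
import Groth.Agent.Lib.Helper6.Hilbpn.Kz.Rank2

/-! Grading of `S/I` and of `End_k(S/I)` by the exponents of all variables but one. -/

open scoped Classical
set_option linter.unusedSectionVars false
set_option autoImplicit false
noncomputable section

namespace Groth.Agent.Lib.Helper6.Hilbpn
open MvPolynomial W4c1hilbpn

variable {σ : Type*} {k : Type*} [Field k] [Fintype σ]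

/-- forget the `i0`-th coordinate -/
def dg (i0 : σ) (v : σ → ℤ) : σ → ℤ := fun l => if l = i0 then 0 else v l

lemma dg_add (i0 : σ) (v w : σ → ℤ) : dg i0 (v + w) = dg i0 v + dg i0 w := by
  funext l; unfold dg; by_cases h : l = i0 <;> simp [h]

/-- the degree of an exponent vector -/
def dN (i0 : σ) (w : σ →₀ ℕ) : σ → ℤ := dg i0 (fun l => (w l : ℤ))

lemma dN_apply (i0 : σ) (w : σ →₀ ℕ) (l : σ) : dN i0 w l = if l = i0 then 0 else (w l : ℤ) := rfl

lemma dN_zero (i0 : σ) : dN i0 (0 : σ →₀ ℕ) = 0 := by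
  funext l; rw [dN_apply]; by_cases h : l = i0 <;> simp [h]

lemma dN_add (i0 : σ) (w u : σ →₀ ℕ) : dN i0 (w + u) = dN i0 w + dN i0 u := by
  funext l; simp only [dN_apply, Pi.add_apply, Finsupp.coe_add]
  by_cases h : l = i0 <;> simp [h]

/-- degree of the `l`-th variable -/
def epsv (i0 : σ) (l : σ) : σ → ℤ := dN i0 (Finsupp.single l 1)

lemma epsv_self (i0 : σ) : epsv i0 i0 = 0 := by
  funext l; unfold epsv; rw [dN_apply]
  by_cases h : l = i0
  · simp [h]
  · simp [h, Finsupp.single_apply, Ne.symm h]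

lemma dN_shift (i0 : σ) {α : σ → ℤ} {β : σ →₀ ℕ} (h : nn α β) :
    dN i0 (shift β α) = dN i0 β + dg i0 α := by
  funext l
  simp only [dN_apply, Pi.add_apply, dg, shift_apply]
  by_cases hl : l = i0
  · simp [hl]
  · simp only [hl, if_false]
    have := h l
    omega

section graded
variable {I : Ideal (MvPolynomial σ k)} (hI : IsMonomial I) (i0 : σ)

/-- the part of `S/I` of degree `γ` -/
def Qd (γ : σ → ℤ) : Submodule k (MvPolynomial σ k ⧸ I) where
  carrier := {q | ∀ w : σ →₀ ℕ, w ∉ exps I → dN i0 w ≠ γ → coeffQ' hI w q = 0}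
  zero_mem' := fun _ _ _ => map_zero _
  add_mem' := by
    intro a b ha hb w hw hne
    rw [map_add, ha w hw hne, hb w hw hne, add_zero]
  smul_mem' := by
    intro c a ha w hw hne
    rw [map_smul, ha w hw hne, smul_zero]

lemma mem_Qd {γ : σ → ℤ} {q : MvPolynomial σ k ⧸ I} :
    q ∈ Qd hI i0 γ ↔ ∀ w : σ →₀ ℕ, w ∉ exps I → dN i0 w ≠ γ → coeffQ' hI w q = 0 := Iff.rfl

lemma mk_monomial_mem_Qd (v : σ →₀ ℕ) :
    Ideal.Quotient.mk I (monomial v (1:k)) ∈ Qd hI i0 (dN i0 v) := by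
  intro w hw hne
  rw [coeffQ'_mk_monomial hI hw, if_neg]
  intro h; exact hne (by rw [h])

lemma mk_monomial_mem_Qd' {v : σ →₀ ℕ} {γ : σ → ℤ} (h : dN i0 v = γ) :
    Ideal.Quotient.mk I (monomial v (1:k)) ∈ Qd hI i0 γ := h ▸ mk_monomial_mem_Qd hI i0 v

lemma X_smul_mem_Qd {γ : σ → ℤ} {q : MvPolynomial σ k ⧸ I} (hq : q ∈ Qd hI i0 γ) (l : σ) :
    (X l : MvPolynomial σ k) • q ∈ Qd hI i0 (γ + epsv i0 l) := by
  intro w hw hne
  by_cases hwl : w l = 0
  · exact coeffQ'_X_smul_zero hI w l q hwl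
  · have hw' : w = (w - Finsupp.single l 1) + Finsupp.single l 1 := by
      ext j
      by_cases hj : j = l
      · subst hj; simp; omega
      · simp [Finsupp.single_apply, Ne.symm hj]
    have hw0 : w - Finsupp.single l 1 ∉ exps I := fun h => hw (exps_of_le h tsub_le_self)
    rw [hw'] at hw ⊢
    rw [coeffQ'_X_smul hI _ _ _ hw]
    apply hq _ hw0
    intro h
    apply hne
    rw [hw', dN_add, h]; rfl

lemma monomial_smul_mem_Qd {γ : σ → ℤ} {q : MvPolynomial σ k ⧸ I} (hq : q ∈ Qd hI i0 γ)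
    (u : σ →₀ ℕ) : (monomial u (1:k)) • q ∈ Qd hI i0 (γ + dN i0 u) := by
  induction u using finsupp_induction_single with
  | h0 =>
    rw [dN_zero, add_zero]
    have : (monomial (0 : σ →₀ ℕ) (1:k)) = 1 := rfl
    rw [this, one_smul]; exact hq
  | hs β l ih =>
    have h1 : (monomial (β + Finsupp.single l 1) (1:k)) • q =
        (X l : MvPolynomial σ k) • ((monomial β (1:k)) • q) := by
      rw [← X_mul_monomial', mul_smul]
    have h2 : γ + dN i0 (β + Finsupp.single l 1) = (γ + dN i0 β) + epsv i0 l := by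
      rw [dN_add, add_assoc]; rfl
    rw [h1, h2]
    exact X_smul_mem_Qd hI i0 ih l

/-- endomorphisms of degree `δ` -/
def Endd (δ : σ → ℤ) : Submodule k (Module.End k (MvPolynomial σ k ⧸ I)) where
  carrier := {g | ∀ u : σ →₀ ℕ, g (Ideal.Quotient.mk I (monomial u (1:k))) ∈ Qd hI i0 (dN i0 u + δ)}
  zero_mem' := fun _ => Submodule.zero_mem _
  add_mem' := by
    intro a b ha hb u
    exact Submodule.add_mem _ (ha u) (hb u)
  smul_mem' := by
    intro c a ha u
    exact Submodule.smul_mem _ _ (ha u)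

lemma mem_Endd {δ : σ → ℤ} {g : Module.End k (MvPolynomial σ k ⧸ I)} :
    g ∈ Endd hI i0 δ ↔
      ∀ u : σ →₀ ℕ, g (Ideal.Quotient.mk I (monomial u (1:k))) ∈ Qd hI i0 (dN i0 u + δ) := Iff.rfl

lemma mulX_mul_mem_Endd {δ : σ → ℤ} {g : Module.End k (MvPolynomial σ k ⧸ I)}
    (hg : g ∈ Endd hI i0 δ) (l : σ) : mulX I l * g ∈ Endd hI i0 (δ + epsv i0 l) := by
  intro u
  rw [Module.End.mul_apply, mulX_apply, ← add_assoc]
  exact X_smul_mem_Qd hI i0 (hg u) l

lemma mul_mulX_mem_Endd {δ : σ → ℤ} {g : Module.End k (MvPolynomial σ k ⧸ I)}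
    (hg : g ∈ Endd hI i0 δ) (l : σ) : g * mulX I l ∈ Endd hI i0 (δ + epsv i0 l) := by
  intro u
  rw [Module.End.mul_apply, mulX_apply, smul_mk_monomial]
  have h2 : dN i0 u + (δ + epsv i0 l) = dN i0 (u + Finsupp.single l 1) + δ := by
    rw [dN_add]
    show dN i0 u + (δ + epsv i0 l) = dN i0 u + epsv i0 l + δ
    abel
  rw [h2]
  exact hg _

end graded

end Groth.Agent.Lib.Helper6.Hilbpn
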