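import Mathlib
import Groth.Prelude.Def_W4c1hilbpnTgt
import Groth.Agent.Lib.Helper6.Hilbpn.Kz.Graded

/-! Twisted derivations `D : S → S/I` attached to cocycles of `End_k(S/I)`. -/

open scoped Classical
set_option linter.unusedSectionVars false
set_option autoImplicit false
noncomputable section

namespace Groth.Agent.Lib.Helper6.Hilbpn
open MvPolynomial W4c1hilbpn

variable {σ : Type*} {k : Type*} [Field k] [Fintype σ]
variable {I : Ideal (MvPolynomial σ k)}

local notation "Q" => (MvPolynomial σ k ⧸ I)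

/-- `D (x_l p) = x_l D p + e_l (p mod I)` -/
def IsDer (D : MvPolynomial σ k →ₗ[k] (MvPolynomial σ k ⧸ I))
    (e : σ → Module.End k (MvPolynomial σ k ⧸ I)) : Prop :=
  ∀ l p, D (X l * p) = (X l : MvPolynomial σ k) • D p + e l (Ideal.Quotient.mk I p)

/-- the cocycle condition -/
def IsCoc (e : σ → Module.End k (MvPolynomial σ k ⧸ I)) : Prop :=
  ∀ l m, mulX I l * e m - e m * mulX I l = mulX I m * e l - e l * mulX I m

lemma IsDer.coc {D : MvPolynomial σ k →ₗ[k] (MvPolynomial σ k ⧸ I)}
    {e : σ → Module.End k (MvPolynomial σ k ⧸ I)} (h : IsDer D e) : IsCoc e := by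
  intro l m
  ext q
  obtain ⟨p, rfl⟩ := Ideal.Quotient.mk_surjective q
  have h1 := h l (X m * p)
  have h2 := h m (X l * p)
  rw [h m p] at h1
  rw [h l p] at h2
  have hc : (X l : MvPolynomial σ k) * (X m * p) = X m * (X l * p) := by ring
  rw [hc, h2] at h1
  simp only [smul_add, map_mul] at h1
  have hs : (X m : MvPolynomial σ k) • (X l : MvPolynomial σ k) • D p =
      (X l : MvPolynomial σ k) • (X m : MvPolynomial σ k) • D p := smul_comm _ _ _
  rw [hs] at h1
  simp only [LinearMap.sub_apply, Module.End.mul_apply, mulX_apply]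
  have e1 : (X l : MvPolynomial σ k) • (Ideal.Quotient.mk I p) =
      Ideal.Quotient.mk I (X l) * Ideal.Quotient.mk I p := rfl
  have e2 : (X m : MvPolynomial σ k) • (Ideal.Quotient.mk I p) =
      Ideal.Quotient.mk I (X m) * Ideal.Quotient.mk I p := rfl
  rw [e1, e2]
  rw [add_assoc, add_assoc] at h1
  have h3 := add_left_cancel h1
  -- h3 : X m • e l p + e m (X l p) = X l • e m p + e l (X m p)
  rw [sub_eq_sub_iff_add_eq_add]
  exact h3.symm

lemma IsDer.eq_smul {D : MvPolynomial σ k →ₗ[k] (MvPolynomial σ k ⧸ I)}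
    (h : IsDer D (0 : σ → Module.End k (MvPolynomial σ k ⧸ I))) (p : MvPolynomial σ k) :
    D p = p • D 1 := by
  induction p using MvPolynomial.induction_on with
  | C a =>
    have : (C a : MvPolynomial σ k) = a • (1 : MvPolynomial σ k) := by
      rw [smul_eq_C_mul, mul_one]
    rw [this, map_smul, smul_assoc, one_smul]
  | add p q hp hq => rw [map_add, hp, hq, add_smul]
  | mul_X p l hp =>
    rw [mul_comm, h l p, hp]
    simp only [Pi.zero_apply, LinearMap.zero_apply, add_zero]
    rw [mul_smul]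

lemma IsDer.unique_e {D : MvPolynomial σ k →ₗ[k] (MvPolynomial σ k ⧸ I)}
    {e e' : σ → Module.End k (MvPolynomial σ k ⧸ I)} (h : IsDer D e) (h' : IsDer D e') : e = e' := by
  funext l
  ext q
  obtain ⟨p, rfl⟩ := Ideal.Quotient.mk_surjective q
  have := h l p
  rw [h' l p] at this
  exact (add_left_cancel this).symm

section exist
variable (e : σ → Module.End k (MvPolynomial σ k ⧸ I))

/-- the operators on `Q × Q` defining the extension attached to a cocycle -/
def Yop (l : σ) : Module.End k ((MvPolynomial σ k ⧸ I) × (MvPolynomial σ k ⧸ I)) :=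
  LinearMap.prod ((mulX I l).coprod (e l)) ((mulX I l).comp (LinearMap.snd k _ _))

lemma Yop_apply (l : σ) (n : (MvPolynomial σ k ⧸ I) × (MvPolynomial σ k ⧸ I)) :
    Yop e l n = ((X l : MvPolynomial σ k) • n.1 + e l n.2, (X l : MvPolynomial σ k) • n.2) := rfl

variable {e}

lemma Yop_comm (he : IsCoc e) (l m : σ) : Yop e l * Yop e m = Yop e m * Yop e l := by
  refine LinearMap.ext fun n => ?_
  have hc := LinearMap.congr_fun (he l m) n.2
  simp only [LinearMap.sub_apply, Module.End.mul_apply, mulX_apply] at hc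
  rw [sub_eq_sub_iff_add_eq_add] at hc
  simp only [Module.End.mul_apply, Yop_apply, smul_add]
  refine Prod.ext ?_ (smul_comm _ _ _)
  simp only
  rw [smul_comm (X l : MvPolynomial σ k) (X m : MvPolynomial σ k) n.1, add_assoc, add_assoc]
  congr 1

/-- existence of a twisted derivation for a cocycle -/
theorem exists_der (he : IsCoc e) :
    ∃ D : MvPolynomial σ k →ₗ[k] (MvPolynomial σ k ⧸ I), D 1 = 0 ∧ IsDer D e := by
  set s : Set (Module.End k ((MvPolynomial σ k ⧸ I) × (MvPolynomial σ k ⧸ I))) :=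
    Set.range (Yop e) with hs
  have hcomm : ∀ a ∈ s, ∀ b ∈ s, a * b = b * a := by
    rintro _ ⟨l, rfl⟩ _ ⟨m, rfl⟩
    exact Yop_comm he l m
  letI : CommRing (Algebra.adjoin k s) := Algebra.adjoinCommRingOfComm k hcomm
  let y : σ → Algebra.adjoin k s := fun l => ⟨Yop e l, Algebra.subset_adjoin ⟨l, rfl⟩⟩
  let ρ : MvPolynomial σ k →ₐ[k] Module.End k ((MvPolynomial σ k ⧸ I) × (MvPolynomial σ k ⧸ I)) :=
    (Algebra.adjoin k s).val.comp (aeval y)
  have hρX : ∀ l, ρ (X l) = Yop e l := by
    intro l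
    show (Algebra.adjoin k s).val (aeval y (X l)) = Yop e l
    rw [aeval_X]
    rfl
  have hsnd : ∀ (p : MvPolynomial σ k) (n : (MvPolynomial σ k ⧸ I) × (MvPolynomial σ k ⧸ I)),
      (ρ p n).2 = p • n.2 := by
    intro p
    induction p using MvPolynomial.induction_on with
    | C a =>
      intro n
      have : ρ (C a) = algebraMap k _ a := ρ.commutes a
      rw [this, Module.algebraMap_end_apply]
      show a • n.2 = (C a : MvPolynomial σ k) • n.2
      rw [← algebraMap_eq, algebraMap_smul]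
    | add p q hp hq =>
      intro n
      rw [map_add, LinearMap.add_apply, Prod.snd_add, hp, hq, add_smul]
    | mul_X p l hp =>
      intro n
      rw [map_mul, hρX, Module.End.mul_apply, hp, Yop_apply, mul_smul]
  let D : MvPolynomial σ k →ₗ[k] (MvPolynomial σ k ⧸ I) :=
    (LinearMap.fst k _ _).comp
      ((LinearMap.applyₗ ((0 : MvPolynomial σ k ⧸ I), (1 : MvPolynomial σ k ⧸ I))).comp
        ρ.toLinearMap)
  have hD : ∀ p, D p = (ρ p (0, 1)).1 := fun p => rfl
  refine ⟨D, ?_, ?_⟩
  · rw [hD, map_one]; rfl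
  · intro l p
    rw [hD, hD, map_mul, hρX, Module.End.mul_apply, Yop_apply, hsnd]
    simp only
    congr 2
    show p • (1 : MvPolynomial σ k ⧸ I) = Ideal.Quotient.mk I p
    rw [smul_eq_mk_mul, mul_one]

end exist

section gradedDer
variable (hI : IsMonomial I) (i0 : σ)

lemma IsDer.graded {D : MvPolynomial σ k →ₗ[k] (MvPolynomial σ k ⧸ I)}
    {e : σ → Module.End k (MvPolynomial σ k ⧸ I)} (h : IsDer D e) {δ : σ → ℤ}
    (h1 : D 1 ∈ Qd hI i0 δ) (he : ∀ l, e l ∈ Endd hI i0 (δ + epsv i0 l)) (β : σ →₀ ℕ) :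
    D (monomial β 1) ∈ Qd hI i0 (dN i0 β + δ) := by
  induction β using finsupp_induction_single with
  | h0 =>
    rw [dN_zero, zero_add]
    exact h1
  | hs β l ih =>
    rw [← X_mul_monomial', h l]
    have h2 : dN i0 (β + Finsupp.single l 1) + δ = (dN i0 β + δ) + epsv i0 l := by
      rw [dN_add]
      show dN i0 β + epsv i0 l + δ = dN i0 β + δ + epsv i0 l
      abel
    rw [h2]
    refine Submodule.add_mem _ (X_smul_mem_Qd hI i0 ih l) ?_
    rw [add_assoc]
    exact he l β

end gradedDer

end Groth.Agent.Lib.Helper6.Hilbpn
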