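import Mathlib
import Groth.Prelude.Def_W4c1hilbpnTgt
import Groth.Agent.Lib.Helper6.Hilbpn.Kz.Der

/-! The map `T(I) × End_k(S/I) → Z¹`, `(φ, g) ↦ Ξ(φ) - [X, g]`: it is onto the cocycles and its kernel is
`S/I`. -/

open scoped Classical
set_option linter.unusedSectionVars false
set_option autoImplicit false
noncomputable section

namespace Groth.Agent.Lib.Helper6.Hilbpn
open MvPolynomial W4c1hilbpn

variable {σ : Type*} {k : Type*} [Field k] [Fintype σ]
variable {I : Ideal (MvPolynomial σ k)} (hI : IsMonomial I)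

/-- the quotient map as a `k`-linear map -/
def mkL (I : Ideal (MvPolynomial σ k)) : MvPolynomial σ k →ₗ[k] (MvPolynomial σ k ⧸ I) :=
  (Ideal.Quotient.mkₐ k I).toLinearMap

@[simp] lemma mkL_apply (p : MvPolynomial σ k) : mkL I p = Ideal.Quotient.mk I p := rfl

/-- extension of `φ` by zero on the standard monomials -/
def tildeL (I : Ideal (MvPolynomial σ k)) :
    Tgt I →ₗ[k] (MvPolynomial σ k →ₗ[k] (MvPolynomial σ k ⧸ I)) :=
  ((basisMonomials σ k).constr k).toLinearMap ∘ₗ
    (LinearMap.pi fun β => if h : β ∈ exps I then evalAt (monI I β h) else 0)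

lemma tildeL_monomial (φ : Tgt I) (β : σ →₀ ℕ) :
    tildeL I φ (monomial β 1) = if h : β ∈ exps I then φ (monI I β h) else 0 := by
  have : monomial β (1:k) = basisMonomials σ k β := by rw [coe_basisMonomials]
  unfold tildeL
  rw [this, LinearMap.comp_apply, LinearEquiv.coe_coe, Module.Basis.constr_basis, LinearMap.pi_apply]
  by_cases h : β ∈ exps I
  · rw [dif_pos h, dif_pos h]; rfl
  · rw [dif_neg h, dif_neg h]; rfl

lemma tildeL_monomial_mem (φ : Tgt I) {β : σ →₀ ℕ} (h : β ∈ exps I) :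
    tildeL I φ (monomial β 1) = φ (monI I β h) := by
  rw [tildeL_monomial, dif_pos h]

lemma tildeL_monomial_std (φ : Tgt I) {β : σ →₀ ℕ} (h : β ∉ exps I) :
    tildeL I φ (monomial β 1) = 0 := by
  rw [tildeL_monomial, dif_neg h]

include hI in
lemma tildeL_of_mem (φ : Tgt I) (p : I) : tildeL I φ p.1 = φ p := by
  have := klin_ext hI ((tildeL I φ).comp ((I.restrictScalars k).subtype)) (φ.restrictScalars k)
    (fun β hβ => by
      show tildeL I φ (monomial β 1) = φ (monI I β hβ)
      exact tildeL_monomial_mem φ hβ)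
  exact LinearMap.congr_fun this p

/-- the `k`-linear section of the quotient map given by standard monomials -/
def secL : (MvPolynomial σ k ⧸ I) →ₗ[k] MvPolynomial σ k :=
  (stdBasis hI).constr k (fun w => monomial w.1 (1:k))

lemma secL_std {u : σ →₀ ℕ} (hu : u ∉ exps I) :
    secL hI (Ideal.Quotient.mk I (monomial u (1:k))) = monomial u 1 := by
  have : Ideal.Quotient.mk I (monomial u (1:k)) = stdBasis hI ⟨u, hu⟩ := (stdBasis_apply hI ⟨u, hu⟩).symm
  unfold secL
  rw [this, Module.Basis.constr_basis]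

/-- the twisted derivation attached to a pair `(φ, g)` -/
def Dof (φ : Tgt I) (g : Module.End k (MvPolynomial σ k ⧸ I)) :
    MvPolynomial σ k →ₗ[k] (MvPolynomial σ k ⧸ I) :=
  tildeL I φ + g.comp (mkL I)

lemma Dof_monomial_mem (φ : Tgt I) (g : Module.End k (MvPolynomial σ k ⧸ I)) {β : σ →₀ ℕ}
    (h : β ∈ exps I) : Dof φ g (monomial β 1) = φ (monI I β h) := by
  unfold Dof
  rw [LinearMap.add_apply, tildeL_monomial_mem φ h, LinearMap.comp_apply, mkL_apply,
    mk_monomial_eq_zero_iff.2 h, map_zero, add_zero]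

lemma Dof_monomial_std (φ : Tgt I) (g : Module.End k (MvPolynomial σ k ⧸ I)) {β : σ →₀ ℕ}
    (h : β ∉ exps I) : Dof φ g (monomial β 1) = g (Ideal.Quotient.mk I (monomial β 1)) := by
  unfold Dof
  rw [LinearMap.add_apply, tildeL_monomial_std φ h, LinearMap.comp_apply, mkL_apply, zero_add]

/-- the cocycle attached to `φ` -/
def Xi (l : σ) : Tgt I →ₗ[k] Module.End k (MvPolynomial σ k ⧸ I) :=
  ((stdBasis hI).constr k).toLinearMap ∘ₗ
    (LinearMap.pi fun u : Std I =>
      (LinearMap.applyₗ (monomial (u.1 + Finsupp.single l 1) (1:k))).comp (tildeL I))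

lemma Xi_std (l : σ) (φ : Tgt I) {u : σ →₀ ℕ} (hu : u ∉ exps I) :
    Xi hI l φ (Ideal.Quotient.mk I (monomial u (1:k))) =
      tildeL I φ (monomial (u + Finsupp.single l 1) 1) := by
  have : Ideal.Quotient.mk I (monomial u (1:k)) = stdBasis hI ⟨u, hu⟩ := (stdBasis_apply hI ⟨u, hu⟩).symm
  unfold Xi
  rw [this, LinearMap.comp_apply, LinearEquiv.coe_coe, Module.Basis.constr_basis]
  rfl

/-- commutator with multiplication by a variable -/
def adX (I : Ideal (MvPolynomial σ k)) (l : σ) :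
    Module.End k (MvPolynomial σ k ⧸ I) →ₗ[k] Module.End k (MvPolynomial σ k ⧸ I) :=
  LinearMap.mulLeft k (mulX I l) - LinearMap.mulRight k (mulX I l)

lemma adX_apply (l : σ) (g : Module.End k (MvPolynomial σ k ⧸ I)) :
    adX I l g = mulX I l * g - g * mulX I l := rfl

/-- the comparison map -/
def Fmap : (Tgt I × Module.End k (MvPolynomial σ k ⧸ I)) →ₗ[k]
    (σ → Module.End k (MvPolynomial σ k ⧸ I)) :=
  LinearMap.pi fun l => (Xi hI l).comp (LinearMap.fst k _ _) - (adX I l).comp (LinearMap.snd k _ _)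

lemma Fmap_apply (x : Tgt I × Module.End k (MvPolynomial σ k ⧸ I)) (l : σ) :
    Fmap hI x l = Xi hI l x.1 - (mulX I l * x.2 - x.2 * mulX I l) := rfl

/-- the key identity -/
theorem isDer_Dof (φ : Tgt I) (g : Module.End k (MvPolynomial σ k ⧸ I)) :
    IsDer (Dof φ g) (Fmap hI (φ, g)) := by
  intro l p
  have key : (Dof φ g).comp (LinearMap.mulLeft k (X l : MvPolynomial σ k)) =
      (mulX I l).comp (Dof φ g) + (Fmap hI (φ, g) l).comp (mkL I) := by
    apply (basisMonomials σ k).ext
    intro β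
    rw [coe_basisMonomials]
    simp only [LinearMap.comp_apply, LinearMap.add_apply, LinearMap.mulLeft_apply, mkL_apply,
      mulX_apply, Fmap_apply, LinearMap.sub_apply, Module.End.mul_apply]
    rw [X_mul_monomial']
    by_cases hβ : β ∈ exps I
    · rw [Dof_monomial_mem φ g (exps_add hβ _), Dof_monomial_mem φ g hβ,
        mk_monomial_eq_zero_iff.2 hβ, tgt_monI_add_single φ β hβ l]
      simp only [map_zero, smul_zero, sub_zero, add_zero]
    · rw [Dof_monomial_std φ g hβ, Xi_std hI l φ hβ, smul_mk_monomial]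
      unfold Dof
      rw [LinearMap.add_apply, LinearMap.comp_apply, mkL_apply]
      abel
  have := LinearMap.congr_fun key p
  simpa using this

/-- the pair attached to a twisted derivation -/
def tgtOfDer {D : MvPolynomial σ k →ₗ[k] (MvPolynomial σ k ⧸ I)}
    {e : σ → Module.End k (MvPolynomial σ k ⧸ I)} (hD : IsDer D e) : Tgt I :=
  mkTgt hI D (by
    intro β hβ i
    rw [← X_mul_monomial', hD i, mk_monomial_eq_zero_iff.2 hβ, map_zero, add_zero])

lemma tgtOfDer_apply {D : MvPolynomial σ k →ₗ[k] (MvPolynomial σ k ⧸ I)}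
    {e : σ → Module.End k (MvPolynomial σ k ⧸ I)} (hD : IsDer D e) {β : σ →₀ ℕ} (h : β ∈ exps I) :
    tgtOfDer hI hD (monI I β h) = D (monomial β 1) := rfl

lemma Dof_of_der {D : MvPolynomial σ k →ₗ[k] (MvPolynomial σ k ⧸ I)}
    {e : σ → Module.End k (MvPolynomial σ k ⧸ I)} (hD : IsDer D e) :
    Dof (tgtOfDer hI hD) (D.comp (secL hI)) = D := by
  apply (basisMonomials σ k).ext
  intro β
  rw [coe_basisMonomials]
  by_cases hβ : β ∈ exps I
  · rw [Dof_monomial_mem _ _ hβ, tgtOfDer_apply]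
  · rw [Dof_monomial_std _ _ hβ, LinearMap.comp_apply, secL_std hI hβ]

/-- every cocycle is in the image of the comparison map -/
theorem Fmap_of_der {D : MvPolynomial σ k →ₗ[k] (MvPolynomial σ k ⧸ I)}
    {e : σ → Module.End k (MvPolynomial σ k ⧸ I)} (hD : IsDer D e) :
    Fmap hI (tgtOfDer hI hD, D.comp (secL hI)) = e := by
  have h1 := isDer_Dof hI (tgtOfDer hI hD) (D.comp (secL hI))
  rw [Dof_of_der hI hD] at h1
  exact h1.unique_e hD

/-- the kernel of the comparison map -/
theorem Fmap_eq_zero {φ : Tgt I} {g : Module.End k (MvPolynomial σ k ⧸ I)}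
    (h : Fmap hI (φ, g) = 0) : φ = 0 ∧ g = LinearMap.mulLeft k (g 1) := by
  have h1 := isDer_Dof hI φ g
  rw [h] at h1
  have h2 := h1.eq_smul
  have hφ : φ = 0 := by
    ext p
    rw [LinearMap.zero_apply, ← tildeL_of_mem hI φ p]
    have h3 := h2 p.1
    unfold Dof at h3
    rw [LinearMap.add_apply, LinearMap.comp_apply, mkL_apply,
      Ideal.Quotient.eq_zero_iff_mem.2 p.2, map_zero, add_zero, smul_eq_zero_of_mem p.2] at h3
    exact h3
  refine ⟨hφ, ?_⟩
  ext q
  obtain ⟨p, rfl⟩ := Ideal.Quotient.mk_surjective q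
  have h3 := h2 p
  have h4 := h2 1
  unfold Dof at h3
  rw [hφ, map_zero, zero_add, LinearMap.comp_apply, mkL_apply, LinearMap.comp_apply, mkL_apply,
    map_one, smul_eq_mk_mul] at h3
  rw [h3, LinearMap.mulLeft_apply, mul_comm]

lemma Fmap_zero_mulLeft (c : MvPolynomial σ k ⧸ I) :
    Fmap hI ((0 : Tgt I), LinearMap.mulLeft k c) = 0 := by
  funext l
  rw [Fmap_apply, map_zero, zero_sub, Pi.zero_apply, neg_eq_zero, sub_eq_zero]
  ext q
  simp only [Module.End.mul_apply, mulX_apply, LinearMap.mulLeft_apply, smul_eq_mk_mul]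
  ring

end Groth.Agent.Lib.Helper6.Hilbpn
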