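import Mathlib
import Groth.Prelude.Def_W4c1hilbpnTgt
import Groth.Agent.Lib.Helper6.Hilbpn.Kz.Ext

/-! The graded parts `T(I)_δ` (grading by all variables but one) and the dimension count
`dim T_δ + dim End_δ = dim Z¹_δ + dim Q_δ`. -/

open scoped Classical
set_option linter.unusedSectionVars false
set_option autoImplicit false
noncomputable section

namespace Groth.Agent.Lib.Helper6.Hilbpn
open MvPolynomial W4c1hilbpn

variable {σ : Type*} {k : Type*} [Field k] [Fintype σ]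
variable {I : Ideal (MvPolynomial σ k)} (hI : IsMonomial I) (i0 : σ)

/-- the sum of the graded pieces of `T(I)` whose degree is `δ` away from `i0` -/
def Tdel (I : Ideal (MvPolynomial σ k)) (i0 : σ) (δ : σ → ℤ) : Submodule k (Tgt I) :=
  ⨆ α : {α : σ → ℤ // dg i0 α = δ}, tPiece I α.1

lemma apply_mem_Qd_of_mem_Tdel {δ : σ → ℤ} {φ : Tgt I} (hφ : φ ∈ Tdel I i0 δ) :
    ∀ (β : σ →₀ ℕ) (h : β ∈ exps I), φ (monI I β h) ∈ Qd hI i0 (dN i0 β + δ) := by
  unfold Tdel at hφ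
  induction hφ using Submodule.iSup_induction' with
  | mem α φ hφ =>
    intro β h
    by_cases hnn : nn α.1 β
    · obtain ⟨c, hc⟩ := tPiece_apply_of_nn hφ h hnn
      rw [hc]
      refine Submodule.smul_mem _ _ (mk_monomial_mem_Qd' hI i0 ?_)
      rw [dN_shift i0 hnn, α.2]
    · rw [tPiece_apply_of_not_nn hφ h hnn]
      exact Submodule.zero_mem _
  | zero =>
    intro β h
    rw [LinearMap.zero_apply]
    exact Submodule.zero_mem _
  | add φ ψ _ _ ihφ ihψ =>
    intro β h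
    rw [LinearMap.add_apply]
    exact Submodule.add_mem _ (ihφ β h) (ihψ β h)

lemma mem_Tdel_of_graded {δ : σ → ℤ} {φ : Tgt I}
    (h : ∀ (β : σ →₀ ℕ) (hβ : β ∈ exps I), φ (monI I β hβ) ∈ Qd hI i0 (dN i0 β + δ)) :
    φ ∈ Tdel I i0 δ := by
  obtain ⟨A, hsum⟩ := exists_sum_comp hI φ
  rw [hsum]
  refine Submodule.sum_mem _ fun α _ => ?_
  by_cases hα : dg i0 α = δ
  · exact Submodule.mem_iSup_of_mem (⟨α, hα⟩ : {α : σ → ℤ // dg i0 α = δ}) (comp_mem hI α φ)
  · have : comp hI α φ = 0 := by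
      apply tgt_ext hI
      intro β hβ
      rw [comp_apply_monI hI α φ hβ, LinearMap.zero_apply]
      by_cases hnn : nn α β
      · rw [if_pos hnn]
        by_cases hs : shift β α ∈ exps I
        · rw [mk_monomial_eq_zero_iff.2 hs, smul_zero]
        · rw [h β hβ (shift β α) hs ?_, zero_smul]
          rw [dN_shift i0 hnn]
          intro heq
          exact hα (add_left_cancel heq)
      · rw [if_neg hnn]
    rw [this]
    exact Submodule.zero_mem _

lemma Xi_mem_Endd {δ : σ → ℤ} {φ : Tgt I} (hφ : φ ∈ Tdel I i0 δ) (l : σ) :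
    Xi hI l φ ∈ Endd hI i0 (δ + epsv i0 l) := by
  intro u
  by_cases hu : u ∈ exps I
  · rw [mk_monomial_eq_zero_iff.2 hu, map_zero]
    exact Submodule.zero_mem _
  · rw [Xi_std hI l φ hu, tildeL_monomial]
    by_cases h : u + Finsupp.single l 1 ∈ exps I
    · rw [dif_pos h]
      have h2 : dN i0 u + (δ + epsv i0 l) = dN i0 (u + Finsupp.single l 1) + δ := by
        rw [dN_add]
        show dN i0 u + (δ + epsv i0 l) = dN i0 u + epsv i0 l + δ
        abel
      rw [h2]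
      exact apply_mem_Qd_of_mem_Tdel hI i0 hφ _ h
    · rw [dif_neg h]
      exact Submodule.zero_mem _

/-- the cocycle operator -/
def cocL (I : Ideal (MvPolynomial σ k)) : (σ → Module.End k (MvPolynomial σ k ⧸ I)) →ₗ[k]
    (σ × σ → Module.End k (MvPolynomial σ k ⧸ I)) :=
  LinearMap.pi fun lm => (adX I lm.1).comp (LinearMap.proj lm.2) - (adX I lm.2).comp (LinearMap.proj lm.1)

lemma cocL_eq_zero_iff (e : σ → Module.End k (MvPolynomial σ k ⧸ I)) : cocL I e = 0 ↔ IsCoc e := by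
  constructor
  · intro h l m
    have := congrFun h (l, m)
    simp only [cocL, LinearMap.pi_apply, LinearMap.sub_apply, LinearMap.comp_apply,
      LinearMap.proj_apply, adX_apply, Pi.zero_apply] at this
    exact sub_eq_zero.1 this
  · intro h
    funext lm
    simp only [cocL, LinearMap.pi_apply, LinearMap.sub_apply, LinearMap.comp_apply,
      LinearMap.proj_apply, adX_apply, Pi.zero_apply]
    exact sub_eq_zero.2 (h lm.1 lm.2)

/-- graded cocycles of `End_k(S/I)` -/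
def Zc (δ : σ → ℤ) : Submodule k (σ → Module.End k (MvPolynomial σ k ⧸ I)) :=
  LinearMap.ker (cocL I) ⊓ Submodule.pi Set.univ (fun l => Endd hI i0 (δ + epsv i0 l))

lemma mem_Zc {δ : σ → ℤ} {e : σ → Module.End k (MvPolynomial σ k ⧸ I)} :
    e ∈ Zc hI i0 δ ↔ IsCoc e ∧ ∀ l, e l ∈ Endd hI i0 (δ + epsv i0 l) := by
  unfold Zc
  rw [Submodule.mem_inf, LinearMap.mem_ker, cocL_eq_zero_iff, Submodule.mem_pi]
  simp

lemma Fmap_mem_Zc {δ : σ → ℤ} {φ : Tgt I} (hφ : φ ∈ Tdel I i0 δ)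
    {g : Module.End k (MvPolynomial σ k ⧸ I)} (hg : g ∈ Endd hI i0 δ) :
    Fmap hI (φ, g) ∈ Zc hI i0 δ := by
  rw [mem_Zc]
  refine ⟨(isDer_Dof hI φ g).coc, fun l => ?_⟩
  rw [Fmap_apply]
  exact Submodule.sub_mem _ (Xi_mem_Endd hI i0 hφ l)
    (Submodule.sub_mem _ (mulX_mul_mem_Endd hI i0 hg l) (mul_mulX_mem_Endd hI i0 hg l))

lemma exists_of_mem_Zc {δ : σ → ℤ} {e : σ → Module.End k (MvPolynomial σ k ⧸ I)}
    (he : e ∈ Zc hI i0 δ) :
    ∃ φ ∈ Tdel I i0 δ, ∃ g ∈ Endd hI i0 δ, Fmap hI (φ, g) = e := by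
  rw [mem_Zc] at he
  obtain ⟨D, hD1, hD⟩ := exists_der he.1
  have hgr := hD.graded hI i0 (δ := δ) (by rw [hD1]; exact Submodule.zero_mem _) he.2
  refine ⟨tgtOfDer hI hD, ?_, D.comp (secL hI), ?_, Fmap_of_der hI hD⟩
  · apply mem_Tdel_of_graded hI i0
    intro β hβ
    rw [tgtOfDer_apply]
    exact hgr β
  · intro u
    by_cases hu : u ∈ exps I
    · rw [mk_monomial_eq_zero_iff.2 hu, map_zero]
      exact Submodule.zero_mem _
    · rw [LinearMap.comp_apply, secL_std hI hu]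
      exact hgr u

lemma mulLeft_mem_Endd {δ : σ → ℤ} {c : MvPolynomial σ k ⧸ I} (hc : c ∈ Qd hI i0 δ) :
    LinearMap.mulLeft k c ∈ Endd hI i0 δ := by
  intro u
  rw [LinearMap.mulLeft_apply, mul_comm, ← smul_eq_mk_mul, add_comm]
  exact monomial_smul_mem_Qd hI i0 hc u

section count
variable [Module.Finite k (MvPolynomial σ k ⧸ I)]

/-- the comparison map restricted to degree `δ` -/
def Fdel (δ : σ → ℤ) : (↥(Tdel I i0 δ) × ↥(Endd hI i0 δ)) →ₗ[k]
    (σ → Module.End k (MvPolynomial σ k ⧸ I)) :=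
  (Fmap hI).comp (LinearMap.prodMap (Tdel I i0 δ).subtype (Endd hI i0 δ).subtype)

lemma Fdel_apply (δ : σ → ℤ) (x : ↥(Tdel I i0 δ) × ↥(Endd hI i0 δ)) :
    Fdel hI i0 δ x = Fmap hI (x.1.1, x.2.1) := rfl

lemma range_Fdel (δ : σ → ℤ) : LinearMap.range (Fdel hI i0 δ) = Zc hI i0 δ := by
  apply le_antisymm
  · rintro _ ⟨x, rfl⟩
    rw [Fdel_apply]
    exact Fmap_mem_Zc hI i0 x.1.2 x.2.2
  · intro e he
    obtain ⟨φ, hφ, g, hg, h⟩ := exists_of_mem_Zc hI i0 he
    exact ⟨(⟨φ, hφ⟩, ⟨g, hg⟩), h⟩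

/-- the kernel of the graded comparison map is `Q_δ` -/
def kerFdelEquiv (δ : σ → ℤ) : ↥(LinearMap.ker (Fdel hI i0 δ)) ≃ₗ[k] ↥(Qd hI i0 δ) where
  toFun x := ⟨x.1.2.1 1, by
    have := x.1.2.2 0
    rw [dN_zero, zero_add] at this
    have h1 : (monomial (0 : σ →₀ ℕ) (1:k)) = 1 := rfl
    rw [h1, map_one] at this
    exact this⟩
  map_add' x y := rfl
  map_smul' c x := rfl
  invFun c := ⟨((0 : ↥(Tdel I i0 δ)), ⟨LinearMap.mulLeft k c.1, mulLeft_mem_Endd hI i0 c.2⟩), by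
    rw [LinearMap.mem_ker, Fdel_apply]
    exact Fmap_zero_mulLeft hI c.1⟩
  left_inv x := by
    have hx : Fmap hI (x.1.1.1, x.1.2.1) = 0 := LinearMap.mem_ker.1 x.2
    obtain ⟨h1, h2⟩ := Fmap_eq_zero hI hx
    apply Subtype.ext
    refine Prod.ext (Subtype.ext ?_) (Subtype.ext ?_)
    · exact h1.symm
    · exact h2.symm
  right_inv c := by
    apply Subtype.ext
    show LinearMap.mulLeft k c.1 1 = c.1
    rw [LinearMap.mulLeft_apply, mul_one]

include hI in
/-- the dimension count in degree `δ` -/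
theorem finrank_Tdel_add (δ : σ → ℤ) :
    Module.finrank k ↥(Tdel I i0 δ) + Module.finrank k ↥(Endd hI i0 δ) =
      Module.finrank k ↥(Zc hI i0 δ) + Module.finrank k ↥(Qd hI i0 δ) := by
  haveI := finite_Tgt (k := k) hI
  have h := LinearMap.finrank_range_add_finrank_ker (K := k)
    (V := ↥(Tdel I i0 δ) × ↥(Endd hI i0 δ)) (Fdel hI i0 δ)
  haveI : Module.Free k ↥(Tdel I i0 δ) := Module.Free.of_divisionRing k ↥(Tdel I i0 δ)
  haveI : Module.Free k ↥(Endd hI i0 δ) := Module.Free.of_divisionRing k ↥(Endd hI i0 δ)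
  rw [range_Fdel, (kerFdelEquiv hI i0 δ).finrank_eq, Module.finrank_prod] at h
  exact h.symm

end count

end Groth.Agent.Lib.Helper6.Hilbpn
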