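import Mathlib
import Groth.Prelude.Def_W4c1hilbpnTgt
import Groth.Agent.Lib.Helper6.Hilbpn.Kz.Tdelta

/-! Transport to matrices in the basis of standard monomials and the symmetry
`dim T_δ - dim Q_δ = dim T_δ' - dim Q_δ'`, `δ' = -δ - (1,1)`. -/

open scoped Classical
set_option linter.unusedSectionVars false
set_option autoImplicit false
noncomputable section

namespace Groth.Agent.Lib.Helper6.Hilbpn
open MvPolynomial W4c1hilbpn

variable {k : Type*} [Field k]
variable {I : Ideal (MvPolynomial (Fin 3) k)} (hI : IsMonomial I) (i0 : Fin 3)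

section transport
variable [Fintype (Std I)]

/-- degree of a standard monomial -/
def degB (I : Ideal (MvPolynomial (Fin 3) k)) (i0 : Fin 3) (w : Std I) : Fin 3 → ℤ := dN i0 w.1

/-- matrices of the multiplications by the variables -/
def Mx (l : Fin 3) : Matrix (Std I) (Std I) k :=
  LinearMap.toMatrix (stdBasis hI) (stdBasis hI) (mulX I l)

lemma toMatrix_std_apply (g : Module.End k (MvPolynomial (Fin 3) k ⧸ I)) (w u : Std I) :
    LinearMap.toMatrix (stdBasis hI) (stdBasis hI) g w u =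
      coeffQ' hI w.1 (g (Ideal.Quotient.mk I (monomial u.1 (1:k)))) := by
  rw [LinearMap.toMatrix_apply, stdBasis_repr, stdBasis_apply]

lemma Mx_ne_zero (l : Fin 3) (w u : Std I) (h : Mx hI l w u ≠ 0) :
    degB I i0 w = degB I i0 u + epsv i0 l := by
  unfold Mx at h
  rw [toMatrix_std_apply, mulX_apply, smul_mk_monomial, coeffQ'_mk_monomial hI w.2] at h
  have : u.1 + Finsupp.single l 1 = w.1 := by
    by_contra hne
    exact h (if_neg hne)
  unfold degB
  rw [← this, dN_add]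
  rfl

/-- coordinates on `End_k(S/I)` -/
def cEnd : Module.End k (MvPolynomial (Fin 3) k ⧸ I) ≃ₗ[k] (Std I × Std I → k) :=
  (LinearMap.toMatrix (stdBasis hI) (stdBasis hI)).trans (LinearEquiv.curry k k (Std I) (Std I)).symm

lemma cEnd_apply (g : Module.End k (MvPolynomial (Fin 3) k ⧸ I)) (q : Std I × Std I) :
    cEnd hI g q = LinearMap.toMatrix (stdBasis hI) (stdBasis hI) g q.1 q.2 := rfl

/-- coordinates on triples of endomorphisms -/
def cE : (Fin 3 → Module.End k (MvPolynomial (Fin 3) k ⧸ I)) ≃ₗ[k] Kz.E (Std I) k :=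
  (LinearEquiv.piCongrRight (fun _ : Fin 3 => cEnd hI)).trans
    (LinearEquiv.curry k k (Fin 3) (Std I × Std I)).symm

lemma cE_apply (e : Fin 3 → Module.End k (MvPolynomial (Fin 3) k ⧸ I)) (p : Fin 3 × Std I × Std I) :
    cE hI e p = LinearMap.toMatrix (stdBasis hI) (stdBasis hI) (e p.1) p.2.1 p.2.2 := rfl

lemma mat_cE (e : Fin 3 → Module.End k (MvPolynomial (Fin 3) k ⧸ I)) (l : Fin 3) :
    Kz.mat (cE hI e) l = LinearMap.toMatrix (stdBasis hI) (stdBasis hI) (e l) := rfl

lemma mem_Endd_iff {γ : Fin 3 → ℤ} {g : Module.End k (MvPolynomial (Fin 3) k ⧸ I)} :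
    g ∈ Endd hI i0 γ ↔ ∀ w u : Std I, degB I i0 w - degB I i0 u ≠ γ →
      LinearMap.toMatrix (stdBasis hI) (stdBasis hI) g w u = 0 := by
  constructor
  · intro hg w u hne
    rw [toMatrix_std_apply]
    apply hg u.1 w.1 w.2
    intro h
    apply hne
    unfold degB
    rw [h]; abel
  · intro h u
    by_cases hu : u ∈ exps I
    · rw [mk_monomial_eq_zero_iff.2 hu, map_zero]
      exact Submodule.zero_mem _
    · intro w hw hne
      have := h ⟨w, hw⟩ ⟨u, hu⟩ (by
        intro h'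
        apply hne
        unfold degB at h'
        simp only at h'
        rw [← h']; abel)
      rw [toMatrix_std_apply] at this
      exact this

lemma theta_Mx (l : Fin 3) (g : Module.End k (MvPolynomial (Fin 3) k ⧸ I)) :
    Kz.theta (Mx hI) l (LinearMap.toMatrix (stdBasis hI) (stdBasis hI) g) =
      LinearMap.toMatrix (stdBasis hI) (stdBasis hI) (adX I l g) := by
  unfold Kz.theta Mx
  rw [adX_apply, map_sub, LinearMap.toMatrix_mul, LinearMap.toMatrix_mul]

lemma isCoc_iff3 (e : Fin 3 → Module.End k (MvPolynomial (Fin 3) k ⧸ I)) :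
    IsCoc e ↔ adX I 1 (e 2) = adX I 2 (e 1) ∧ adX I 2 (e 0) = adX I 0 (e 2) ∧
      adX I 0 (e 1) = adX I 1 (e 0) := by
  constructor
  · intro h
    exact ⟨h 1 2, h 2 0, h 0 1⟩
  · rintro ⟨h12, h20, h01⟩ l m
    show adX I l (e m) = adX I m (e l)
    match l, m with
    | 0, 0 => rfl
    | 0, 1 => exact h01
    | 0, 2 => exact h20.symm
    | 1, 0 => exact h01.symm
    | 1, 1 => rfl
    | 1, 2 => exact h12
    | 2, 0 => exact h20
    | 2, 1 => exact h12.symm
    | 2, 2 => rfl

lemma Dlin_cE_eq_zero_iff (e : Fin 3 → Module.End k (MvPolynomial (Fin 3) k ⧸ I)) :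
    Kz.Dlin (Mx hI) (cE hI e) = 0 ↔ IsCoc e := by
  rw [isCoc_iff3]
  have hinj := (LinearMap.toMatrix (stdBasis hI) (stdBasis hI)).injective
  have key : ∀ l, Kz.mat (Kz.Dlin (Mx hI) (cE hI e)) l = Kz.Dm (Mx hI) (Kz.mat (cE hI e)) l :=
    fun l => Kz.mat_Dlin _ _ _
  constructor
  · intro h
    have h0 := key 0
    have h1 := key 1
    have h2 := key 2
    rw [h] at h0 h1 h2
    simp only [Kz.Dm_zero, Kz.Dm_one, Kz.Dm_two, mat_cE, theta_Mx] at h0 h1 h2
    refine ⟨hinj (sub_eq_zero.1 h0.symm), hinj (sub_eq_zero.1 h1.symm), hinj (sub_eq_zero.1 h2.symm)⟩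
  · rintro ⟨h12, h20, h01⟩
    apply Kz.E_ext
    intro l
    rw [key]
    match l with
    | 0 =>
      simp only [Kz.Dm_zero, mat_cE, theta_Mx]
      rw [h12, sub_self]; rfl
    | 1 =>
      simp only [Kz.Dm_one, mat_cE, theta_Mx]
      rw [h20, sub_self]; rfl
    | 2 =>
      simp only [Kz.Dm_two, mat_cE, theta_Mx]
      rw [h01, sub_self]; rfl

lemma Zc_eq_comap (δ : Fin 3 → ℤ) :
    Zc hI i0 δ = (Kz.Z1 (Mx hI) (degB I i0) (epsv i0) δ).comap (cE hI).toLinearMap := by
  ext e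
  rw [mem_Zc, Submodule.mem_comap]
  unfold Kz.Z1
  rw [Submodule.mem_inf, LinearMap.mem_ker, LinearEquiv.coe_coe, Dlin_cE_eq_zero_iff, and_comm]
  refine and_congr ?_ Iff.rfl
  rw [Kz.mem_coordSub]
  constructor
  · intro h p hp
    rw [cE_apply]
    exact (mem_Endd_iff hI i0).1 (h p.1) p.2.1 p.2.2 hp
  · intro h l
    rw [mem_Endd_iff]
    intro w u hne
    exact h (l, w, u) hne

lemma finrank_Zc (δ : Fin 3 → ℤ) :
    Module.finrank k ↥(Zc hI i0 δ) =
      Module.finrank k ↥(Kz.Z1 (Mx hI) (degB I i0) (epsv i0) δ) := by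
  rw [Zc_eq_comap]
  exact (LinearEquiv.ofSubmodule' (cE hI) _).finrank_eq

lemma Endd_eq_comap (δ : Fin 3 → ℤ) :
    Endd hI i0 δ = (Kz.coordSub (k := k)
      (fun q : Std I × Std I => degB I i0 q.1 - degB I i0 q.2 = δ)).comap (cEnd hI).toLinearMap := by
  ext g
  rw [Submodule.mem_comap, Kz.mem_coordSub, mem_Endd_iff]
  constructor
  · intro h q hq
    exact h q.1 q.2 hq
  · intro h w u hne
    exact h (w, u) hne

lemma finrank_Endd (δ : Fin 3 → ℤ) :
    Module.finrank k ↥(Endd hI i0 δ) = Kz.npair (degB I i0) δ := by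
  rw [Endd_eq_comap, (LinearEquiv.ofSubmodule' (cEnd hI) _).finrank_eq, Kz.finrank_coordSub]
  rfl

lemma Qd_eq_comap (δ : Fin 3 → ℤ) :
    Qd hI i0 δ = (Kz.coordSub (k := k) (fun w : Std I => degB I i0 w = δ)).comap
      (stdBasis hI).equivFun.toLinearMap := by
  ext q
  rw [Submodule.mem_comap, Kz.mem_coordSub, mem_Qd]
  constructor
  · intro h w hw
    rw [LinearEquiv.coe_coe, Module.Basis.equivFun_apply, stdBasis_repr]
    exact h w.1 w.2 hw
  · intro h w hw hne
    have := h ⟨w, hw⟩ hne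
    rw [LinearEquiv.coe_coe, Module.Basis.equivFun_apply, stdBasis_repr] at this
    exact this

lemma finrank_Qd (δ : Fin 3 → ℤ) :
    Module.finrank k ↥(Qd hI i0 δ) = Nat.card {w : Std I // dN i0 w.1 = δ} := by
  rw [Qd_eq_comap, (LinearEquiv.ofSubmodule' (stdBasis hI).equivFun _).finrank_eq,
    Kz.finrank_coordSub, Fintype.card_eq_nat_card]
  rfl

end transport

/-- the degree of the product of the graded variables -/
def sumEps (i0 : Fin 3) : Fin 3 → ℤ := epsv i0 0 + epsv i0 1 + epsv i0 2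

include hI in
/-- **Symmetry of the graded dimensions of `T(I)`.** -/
theorem finrank_Tdel_symm [Module.Finite k (MvPolynomial (Fin 3) k ⧸ I)] (δ : Fin 3 → ℤ) :
    Module.finrank k ↥(Tdel I i0 δ) + Nat.card {w : Std I // dN i0 w.1 = -δ - sumEps i0} =
      Module.finrank k ↥(Tdel I i0 (-δ - sumEps i0)) + Nat.card {w : Std I // dN i0 w.1 = δ} := by
  haveI := finite_std (k := k) hI
  letI : Fintype (Std I) := Fintype.ofFinite _
  have h1 := finrank_Tdel_add hI i0 δ
  have h2 := finrank_Tdel_add hI i0 (-δ - sumEps i0)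
  rw [finrank_Zc, finrank_Endd, finrank_Qd] at h1 h2
  have h3 := Kz.finrank_Z1_symm (M := Mx hI) (deg := degB I i0) (eps := epsv i0)
    (fun l w u h => Mx_ne_zero hI i0 l w u h) i0 (epsv_self i0) δ
  unfold sumEps at *
  omega

end Groth.Agent.Lib.Helper6.Hilbpn
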