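import Mathlib
import Groth.Prelude.Def_W4c1hilbpnTgt
import Groth.Agent.Lib.Helper6.Hilbpn.Kz.Transport
import Groth.Agent.Lib.Helper6.Hilbpn.Vanish
import Groth.Agent.Lib.Helper6.Hilbpn.LocMax
import Groth.Agent.Lib.Helper6.Hilbpn.FinrankSup

/-! `dim T_{i} = dim T_{jk} + colength` and the parity of `dim T(I)` in three variables. -/

open scoped Classical
set_option linter.unusedSectionVars false
set_option autoImplicit false
noncomputable section

namespace Groth.Agent.Lib.Helper6.Hilbpn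
open MvPolynomial W4c1hilbpn

variable {k : Type*} [Field k]
variable {I : Ideal (MvPolynomial (Fin 3) k)} (hI : IsMonomial I)
variable [Module.Finite k (MvPolynomial (Fin 3) k ⧸ I)]

/-- the finite set of multidegrees with nonzero graded piece -/
def F0 : Finset (Fin 3 → ℤ) := by
  haveI := finite_Tgt (k := k) hI
  exact (Submodule.finite_ne_bot_of_iSupIndep (iSupIndep_tPiece hI)).toFinset

lemma mem_F0 {α : Fin 3 → ℤ} : α ∈ F0 hI ↔ tPiece I α ≠ ⊥ := by
  unfold F0
  simp

/-- dimension of a graded piece -/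
def fr (I : Ideal (MvPolynomial (Fin 3) k)) (α : Fin 3 → ℤ) : ℕ := Module.finrank k ↥(tPiece I α)

lemma finrank_iSup_pred (P : (Fin 3 → ℤ) → Prop) :
    Module.finrank k ↥(⨆ α : {α : Fin 3 → ℤ // P α}, tPiece I α.1) =
      ∑ α ∈ F0 hI, if P α then fr I α else 0 := by
  rw [← Finset.sum_filter]
  exact finrank_iSup_subtype (fun α => tPiece I α) (iSupIndep_tPiece hI) P ((F0 hI).filter P)
    (fun α hα => (Finset.mem_filter.1 hα).2)
    (fun α hP hα => by
      by_contra hne
      exact hα (Finset.mem_filter.2 ⟨(mem_F0 hI).2 hne, hP⟩))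
    (fun α _ => finite_tPiece_three hI α)

lemma sumEps_apply (i0 l : Fin 3) : sumEps i0 l = if l = i0 then 0 else 1 := by
  unfold sumEps epsv
  simp only [Pi.add_apply, dN_apply, Finsupp.single_apply]
  fin_cases i0 <;> fin_cases l <;> simp

/-- the involution `δ ↦ -δ - (1,1)` -/
def iot (i0 : Fin 3) (δ : Fin 3 → ℤ) : Fin 3 → ℤ := -δ - sumEps i0

lemma iot_iot (i0 : Fin 3) (δ : Fin 3 → ℤ) : iot i0 (iot i0 δ) = δ := by
  unfold iot; abel

lemma iot_apply (i0 : Fin 3) (δ : Fin 3 → ℤ) (l : Fin 3) :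
    iot i0 δ l = if l = i0 then -δ l else -δ l - 1 := by
  unfold iot
  rw [Pi.sub_apply, Pi.neg_apply, sumEps_apply]
  by_cases h : l = i0 <;> simp [h]

/-- degrees that are nonnegative and vanish at `i0` -/
def InD (i0 : Fin 3) (δ : Fin 3 → ℤ) : Prop := δ i0 = 0 ∧ ∀ l, 0 ≤ δ l

lemma dg_apply (i0 : Fin 3) (α : Fin 3 → ℤ) (l : Fin 3) : dg i0 α l = if l = i0 then 0 else α l := by
  unfold dg
  by_cases h : l = i0
  · rw [if_pos h, if_pos h]
  · rw [if_neg h, if_neg h]

lemma InD_dg_iff (i0 : Fin 3) {α : Fin 3 → ℤ} (hα : α ∈ F0 hI) :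
    InD i0 (dg i0 α) ↔ (∀ l, α l < 0 ↔ l ∈ ({i0} : Set (Fin 3))) := by
  have hne := (mem_F0 hI).1 hα
  constructor
  · rintro ⟨_, h⟩
    have h' : ∀ l, l ≠ i0 → 0 ≤ α l := by
      intro l hl
      have := h l
      rw [dg_apply, if_neg hl] at this
      exact this
    have h0 : α i0 < 0 := by
      by_contra hcon
      push_neg at hcon
      apply hne
      apply tPiece_eq_bot_of_nonneg hI
      intro l
      by_cases hl : l = i0
      · rw [hl]; exact hcon
      · exact h' l hl
    intro l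
    rw [Set.mem_singleton_iff]
    constructor
    · intro hl
      by_contra hne'
      exact absurd (h' l hne') (not_le.2 hl)
    · intro hl; rw [hl]; exact h0
  · intro h
    refine ⟨by rw [dg_apply, if_pos rfl], fun l => ?_⟩
    rw [dg_apply]
    by_cases hl : l = i0
    · rw [if_pos hl]
    · rw [if_neg hl]
      by_contra hcon
      push_neg at hcon
      exact hl ((h l).1 hcon)

lemma InD_iot_dg_iff (i0 : Fin 3) {α : Fin 3 → ℤ} (hα : α ∈ F0 hI) :
    InD i0 (iot i0 (dg i0 α)) ↔ (∀ l, α l < 0 ↔ l ∈ ({i0}ᶜ : Set (Fin 3))) := by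
  have hne := (mem_F0 hI).1 hα
  constructor
  · rintro ⟨_, h⟩
    have h' : ∀ l, l ≠ i0 → α l < 0 := by
      intro l hl
      have := h l
      rw [iot_apply, if_neg hl, dg_apply, if_neg hl] at this
      omega
    have h0 : 0 ≤ α i0 := by
      by_contra hcon
      push_neg at hcon
      apply hne
      apply tPiece_eq_bot_of_all_neg hI
      intro l
      by_cases hl : l = i0
      · rw [hl]; exact hcon
      · exact h' l hl
    intro l
    rw [Set.mem_compl_iff, Set.mem_singleton_iff]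
    constructor
    · intro hl heq
      rw [heq] at hl
      exact absurd h0 (not_le.2 hl)
    · intro hl; exact h' l hl
  · intro h
    refine ⟨by rw [iot_apply, if_pos rfl, dg_apply, if_pos rfl, neg_zero], fun l => ?_⟩
    rw [iot_apply, dg_apply]
    by_cases hl : l = i0
    · rw [if_pos hl, if_pos hl, neg_zero]
    · rw [if_neg hl, if_neg hl]
      have := (h l).2 (by rw [Set.mem_compl_iff, Set.mem_singleton_iff]; exact hl)
      omega

lemma finrank_Tdel_eq_sum (i0 : Fin 3) (δ : Fin 3 → ℤ) :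
    Module.finrank k ↥(Tdel I i0 δ) = ∑ α ∈ F0 hI, if dg i0 α = δ then fr I α else 0 := by
  unfold Tdel
  rw [finrank_iSup_pred hI]
  refine Finset.sum_congr rfl fun α _ => ?_
  by_cases h : dg i0 α = δ
  · rw [if_pos h, if_pos h]
  · rw [if_neg h, if_neg h]

lemma card_std_iot_eq_zero (i0 : Fin 3) {δ : Fin 3 → ℤ} (hδ : InD i0 δ) :
    Nat.card {w : Std I // dN i0 w.1 = iot i0 δ} = 0 := by
  haveI : IsEmpty {w : Std I // dN i0 w.1 = iot i0 δ} := by
    refine ⟨fun w => ?_⟩
    obtain ⟨l, hl⟩ : ∃ l : Fin 3, l ≠ i0 := by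
      fin_cases i0
      · exact ⟨1, by decide⟩
      · exact ⟨0, by decide⟩
      · exact ⟨0, by decide⟩
    have h := congrFun w.2 l
    rw [dN_apply, if_neg hl, iot_apply, if_neg hl] at h
    have := hδ.2 l
    omega
  exact Nat.card_of_isEmpty

include hI in
/-- `dim T_{i} = dim T_{jk} + colength` -/
theorem finrank_sigPiece_singleton (i0 : Fin 3) :
    Module.finrank k ↥(sigPiece I {i0}) =
      Module.finrank k ↥(sigPiece I ({i0}ᶜ : Set (Fin 3))) +
        Module.finrank k (MvPolynomial (Fin 3) k ⧸ I) := by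
  haveI := finite_std (k := k) hI
  letI : Fintype (Std I) := Fintype.ofFinite _
  unfold sigPiece
  set D : Finset (Fin 3 → ℤ) :=
    ((F0 hI).image (dg i0) ∪ (F0 hI).image (fun α => iot i0 (dg i0 α)) ∪
      (Finset.univ.image (fun w : Std I => dN i0 w.1))).filter (InD i0) with hD
  have hDmem : ∀ δ, δ ∈ D ↔ (δ ∈ (F0 hI).image (dg i0) ∨ δ ∈ (F0 hI).image (fun α => iot i0 (dg i0 α)) ∨
      δ ∈ (Finset.univ.image (fun w : Std I => dN i0 w.1))) ∧ InD i0 δ := by
    intro δ
    rw [hD, Finset.mem_filter, Finset.mem_union, Finset.mem_union, or_assoc]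
  -- first sum
  have h1 : ∑ δ ∈ D, Module.finrank k ↥(Tdel I i0 δ) =
      Module.finrank k ↥(⨆ α : {α : Fin 3 → ℤ // ∀ i, α i < 0 ↔ i ∈ ({i0} : Set (Fin 3))},
        tPiece I α.1) := by
    rw [finrank_iSup_pred hI]
    simp only [finrank_Tdel_eq_sum hI i0]
    rw [Finset.sum_comm]
    refine Finset.sum_congr rfl fun α hα => ?_
    rw [Finset.sum_ite_eq D (dg i0 α) (fun _ => fr I α)]
    have : dg i0 α ∈ D ↔ (∀ l, α l < 0 ↔ l ∈ ({i0} : Set (Fin 3))) := by
      rw [← InD_dg_iff hI i0 hα, hDmem]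
      constructor
      · exact fun h => h.2
      · exact fun h => ⟨Or.inl (Finset.mem_image_of_mem _ hα), h⟩
    by_cases hc : dg i0 α ∈ D
    · rw [if_pos hc, if_pos (this.1 hc)]
    · rw [if_neg hc, if_neg (fun h => hc (this.2 h))]
  -- second sum
  have h2 : ∑ δ ∈ D, Module.finrank k ↥(Tdel I i0 (iot i0 δ)) =
      Module.finrank k ↥(⨆ α : {α : Fin 3 → ℤ // ∀ i, α i < 0 ↔ i ∈ ({i0}ᶜ : Set (Fin 3))},
        tPiece I α.1) := by
    rw [finrank_iSup_pred hI]
    simp only [finrank_Tdel_eq_sum hI i0]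
    rw [Finset.sum_comm]
    refine Finset.sum_congr rfl fun α hα => ?_
    have hiff : ∀ δ, dg i0 α = iot i0 δ ↔ iot i0 (dg i0 α) = δ := by
      intro δ
      constructor
      · intro h; rw [h, iot_iot]
      · intro h; rw [← h, iot_iot]
    simp only [hiff]
    rw [Finset.sum_ite_eq D (iot i0 (dg i0 α)) (fun _ => fr I α)]
    have : iot i0 (dg i0 α) ∈ D ↔ (∀ l, α l < 0 ↔ l ∈ ({i0}ᶜ : Set (Fin 3))) := by
      rw [← InD_iot_dg_iff hI i0 hα, hDmem]
      constructor
      · exact fun h => h.2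
      · exact fun h => ⟨Or.inr (Or.inl (Finset.mem_image.2 ⟨α, hα, rfl⟩)), h⟩
    by_cases hc : iot i0 (dg i0 α) ∈ D
    · rw [if_pos hc, if_pos (this.1 hc)]
    · rw [if_neg hc, if_neg (fun h => hc (this.2 h))]
  -- third sum
  have h3 : ∑ δ ∈ D, Nat.card {w : Std I // dN i0 w.1 = δ} =
      Module.finrank k (MvPolynomial (Fin 3) k ⧸ I) := by
    rw [Module.finrank_eq_card_basis (stdBasis hI), ← Finset.card_univ]
    have hmaps : ((Finset.univ : Finset (Std I)) : Set (Std I)).MapsTo (fun w : Std I => dN i0 w.1) D := by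
      intro w _
      have hw : InD i0 (dN i0 w.1) := by
        refine ⟨?_, fun l => ?_⟩
        · rw [dN_apply, if_pos rfl]
        · rw [dN_apply]
          by_cases hl : l = i0
          · rw [if_pos hl]
          · rw [if_neg hl]; exact Int.natCast_nonneg _
      rw [Finset.mem_coe, hDmem]
      exact ⟨Or.inr (Or.inr (Finset.mem_image_of_mem _ (Finset.mem_univ w))), hw⟩
    rw [Finset.card_eq_sum_card_fiberwise hmaps]
    refine Finset.sum_congr rfl fun δ _ => ?_
    rw [Nat.card_eq_fintype_card, Fintype.card_subtype]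
  -- the symmetry in each degree
  have hkey : ∀ δ ∈ D, Module.finrank k ↥(Tdel I i0 δ) =
      Module.finrank k ↥(Tdel I i0 (iot i0 δ)) + Nat.card {w : Std I // dN i0 w.1 = δ} := by
    intro δ hδ
    have hδ' := ((hDmem δ).1 hδ).2
    have h := finrank_Tdel_symm hI i0 δ
    have h0 := card_std_iot_eq_zero (I := I) i0 hδ'
    unfold iot at h0 ⊢
    rw [h0, add_zero] at h
    exact h
  rw [← h1, ← h2, ← h3, ← Finset.sum_add_distrib]
  exact Finset.sum_congr rfl hkey

end Groth.Agent.Lib.Helper6.Hilbpn
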