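import Mathlib
import Groth.Prelude.Def_W4c1hilbpnTgt
import Groth.Agent.Lib.Helper6.Hilbpn.Kz.SigSymm

/-! Parity of `dim T(I)` in three variables. -/

open scoped Classical
set_option linter.unusedSectionVars false
set_option autoImplicit false
noncomputable section

namespace Groth.Agent.Lib.Helper6.Hilbpn
open MvPolynomial W4c1hilbpn

variable {k : Type*} [Field k]
variable {I : Ideal (MvPolynomial (Fin 3) k)} (hI : IsMonomial I)
variable [Module.Finite k (MvPolynomial (Fin 3) k ⧸ I)]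

lemma pattern_count {α : Fin 3 → ℤ} (hα : α ∈ F0 hI) :
    ∑ i : Fin 3, ((if (∀ l, α l < 0 ↔ l ∈ ({i} : Set (Fin 3))) then 1 else 0) +
      (if (∀ l, α l < 0 ↔ l ∈ ({i}ᶜ : Set (Fin 3))) then 1 else 0)) = 1 := by
  have hne := (mem_F0 hI).1 hα
  have hnn : ¬ (∀ l, 0 ≤ α l) := fun h => hne (tPiece_eq_bot_of_nonneg hI h)
  have hneg : ¬ (∀ l, α l < 0) := fun h => hne (tPiece_eq_bot_of_all_neg hI h)
  rw [forall_fin3] at hnn hneg
  rw [Fin.sum_univ_three]
  simp only [forall_fin3, Set.mem_singleton_iff, Set.mem_compl_iff]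
  by_cases h0 : α 0 < 0 <;> by_cases h1 : α 1 < 0 <;> by_cases h2 : α 2 < 0
  · exact absurd ⟨h0, h1, h2⟩ hneg
  · simp [h0, h1, h2]
  · simp [h0, h1, h2]
  · simp [h0, h1, h2]
  · simp [h0, h1, h2]
  · simp [h0, h1, h2]
  · simp [h0, h1, h2]
  · exact absurd ⟨not_lt.1 h0, not_lt.1 h1, not_lt.1 h2⟩ hnn

include hI in
lemma finrank_Tgt_eq_sum :
    Module.finrank k (Tgt I) = ∑ i : Fin 3, (Module.finrank k ↥(sigPiece I {i}) +
      Module.finrank k ↥(sigPiece I ({i}ᶜ : Set (Fin 3)))) := by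
  have h1 : Module.finrank k (Tgt I) = ∑ α ∈ F0 hI, fr I α := by
    have h := finrank_iSup_pred hI (fun _ => True)
    have htop : (⨆ α : {α : Fin 3 → ℤ // True}, tPiece I α.1) = ⊤ := by
      rw [← iSup_tPiece_eq_top hI]
      apply le_antisymm
      · exact iSup_le fun a => le_iSup (fun α => tPiece I α) a.1
      · exact iSup_le fun a => le_iSup_of_le (⟨a, trivial⟩ : {α : Fin 3 → ℤ // True}) le_rfl
    rw [htop, finrank_top] at h
    rw [h]
    refine Finset.sum_congr rfl fun α _ => ?_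
    rw [if_pos trivial]
  rw [h1]
  unfold sigPiece
  simp only [finrank_iSup_pred hI]
  simp only [Finset.sum_add_distrib]
  rw [Finset.sum_comm, Finset.sum_comm (s := (Finset.univ : Finset (Fin 3))), ← Finset.sum_add_distrib]
  refine Finset.sum_congr rfl fun α hα => ?_
  have hc := pattern_count hI hα
  have : fr I α = fr I α * ∑ i : Fin 3, ((if (∀ l, α l < 0 ↔ l ∈ ({i} : Set (Fin 3))) then 1 else 0) +
      (if (∀ l, α l < 0 ↔ l ∈ ({i}ᶜ : Set (Fin 3))) then 1 else 0)) := by rw [hc, mul_one]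
  conv_lhs => rw [this]
  rw [Finset.mul_sum, ← Finset.sum_add_distrib]
  refine Finset.sum_congr rfl fun i _ => ?_
  rw [mul_add]
  congr 1
  · by_cases h : (∀ l, α l < 0 ↔ l ∈ ({i} : Set (Fin 3)))
    · rw [if_pos h, if_pos h, mul_one]
    · rw [if_neg h, if_neg h, mul_zero]
  · by_cases h : (∀ l, α l < 0 ↔ l ∈ ({i}ᶜ : Set (Fin 3)))
    · rw [if_pos h, if_pos h, mul_one]
    · rw [if_neg h, if_neg h, mul_zero]

include hI in
/-- `dim T(I) ≡ colength (mod 2)` -/
theorem finrank_Tgt_parity :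
    Module.finrank k (Tgt I) % 2 = Module.finrank k (MvPolynomial (Fin 3) k ⧸ I) % 2 := by
  rw [finrank_Tgt_eq_sum hI, Fin.sum_univ_three, finrank_sigPiece_singleton hI 0,
    finrank_sigPiece_singleton hI 1, finrank_sigPiece_singleton hI 2]
  omega

end Groth.Agent.Lib.Helper6.Hilbpn
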