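import Mathlib
import Groth.Prelude.Def_W4c1hilbpnTgt
import Groth.Agent.Lib.Helper6.Hilbpn.Kz.Transport
import Groth.Agent.Lib.Helper6.Hilbpn.Stair

/-! The symmetry `dim T_{(i,j,*)} = b_{i,j} + dim T_{(-i-1,-j-1,*)}` in three variables. -/

open scoped Classical
set_option linter.unusedSectionVars false
set_option autoImplicit false
noncomputable section

namespace Groth.Agent.Lib.Helper6.Hilbpn
open MvPolynomial W4c1hilbpn

variable {k : Type*} [Field k]
variable {I : Ideal (MvPolynomial (Fin 3) k)} (hI : IsMonomial I)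

lemma iSup_subtype_congr {ι : Type*} {V : Type*} [AddCommGroup V] [Module k V]
    (f : ι → Submodule k V) {P P' : ι → Prop} (h : ∀ a, P a ↔ P' a) :
    (⨆ a : {a // P a}, f a.1) = ⨆ a : {a // P' a}, f a.1 := by
  apply le_antisymm
  · exact iSup_le fun a => le_iSup_of_le (⟨a.1, (h a.1).1 a.2⟩ : {a // P' a}) le_rfl
  · exact iSup_le fun a => le_iSup_of_le (⟨a.1, (h a.1).2 a.2⟩ : {a // P a}) le_rfl

lemma dg_two_eq_iff (α : Fin 3 → ℤ) (a b : ℤ) :
    dg 2 α = ![a, b, 0] ↔ α 0 = a ∧ α 1 = b := by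
  constructor
  · intro h
    have h0 := congrFun h 0
    have h1 := congrFun h 1
    simp [dg] at h0 h1
    exact ⟨h0, h1⟩
  · rintro ⟨h0, h1⟩
    funext l
    match l with
    | 0 => simp [dg, h0]
    | 1 => simp [dg, h1]
    | 2 => simp [dg]

lemma sumEps_two : sumEps 2 = ![1, 1, 0] := by
  funext l
  unfold sumEps epsv
  match l with
  | 0 => simp [dN_apply, Finsupp.single_apply]
  | 1 => simp [dN_apply, Finsupp.single_apply]
  | 2 => simp [dN_apply, Finsupp.single_apply]

lemma Tdel_two (a b : ℤ) :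
    Tdel I 2 ![a, b, 0] = ⨆ α : {α : Fin 3 → ℤ // α 0 = a ∧ α 1 = b}, tPiece I α.1 := by
  unfold Tdel
  exact iSup_subtype_congr (fun α => tPiece I α) (fun α => dg_two_eq_iff α a b)

include hI in
lemma card_std_two [Module.Finite k (MvPolynomial (Fin 3) k ⧸ I)] (i j : ℕ) :
    Nat.card {w : Std I // dN 2 w.1 = ![(i:ℤ), (j:ℤ), 0]} = stairZ I i j := by
  unfold stairZ
  apply Nat.card_congr
  refine
    { toFun := fun w => ⟨w.1.1 2, by
        have h := w.2
        have h0 := congrFun h 0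
        have h1 := congrFun h 1
        simp [dN_apply] at h0 h1
        have : e3 i j (w.1.1 2) = w.1.1 := e3_ext (by simp [h0]) (by simp [h1]) (by simp)
        rw [this]; exact w.1.2⟩
      invFun := fun c => ⟨⟨e3 i j c.1, c.2⟩, by
        funext l
        match l with
        | 0 => simp [dN_apply]
        | 1 => simp [dN_apply]
        | 2 => simp [dN_apply]⟩
      left_inv := fun w => by
        have h := w.2
        have h0 := congrFun h 0
        have h1 := congrFun h 1
        simp [dN_apply] at h0 h1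
        apply Subtype.ext; apply Subtype.ext
        exact e3_ext (by simp [h0]) (by simp [h1]) (by simp)
      right_inv := fun c => by simp }

lemma card_std_two_neg (i j : ℕ) :
    Nat.card {w : Std I // dN 2 w.1 = ![-(i:ℤ) - 1, -(j:ℤ) - 1, 0]} = 0 := by
  haveI : IsEmpty {w : Std I // dN 2 w.1 = ![-(i:ℤ) - 1, -(j:ℤ) - 1, 0]} := by
    refine ⟨fun w => ?_⟩
    have h0 := congrFun w.2 0
    simp [dN_apply] at h0
    omega
  exact Nat.card_of_isEmpty

include hI in
/-- `dim T_{(i,j,*)} = b_{i,j} + dim T_{(-i-1,-j-1,*)}` -/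
theorem finrank_symm_two [Module.Finite k (MvPolynomial (Fin 3) k ⧸ I)] (i j : ℕ) :
    Module.finrank k ↥(⨆ α : {α : Fin 3 → ℤ // α 0 = (i : ℤ) ∧ α 1 = (j : ℤ)}, tPiece I α.1) =
      stairZ I i j +
        Module.finrank k ↥(⨆ α : {α : Fin 3 → ℤ // α 0 = -(i : ℤ) - 1 ∧ α 1 = -(j : ℤ) - 1},
          tPiece I α.1) := by
  have h := finrank_Tdel_symm hI 2 ![(i:ℤ), (j:ℤ), 0]
  have hδ : -![(i:ℤ), (j:ℤ), 0] - sumEps 2 = ![-(i:ℤ) - 1, -(j:ℤ) - 1, 0] := by
    rw [sumEps_two]
    funext l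
    match l with
    | 0 => simp
    | 1 => simp
    | 2 => simp
  rw [hδ, card_std_two hI, card_std_two_neg, Tdel_two, Tdel_two, add_zero] at h
  rw [h, add_comm]

end Groth.Agent.Lib.Helper6.Hilbpn
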